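import Cfsg.Agent.Lib.Lead.AutPO.DG0
import Cfsg.Agent.Lib.Lead.RootBN.OQSharp
import Cfsg.Agent.Lib.Helper5.AutSU.Defs
import Mathlib

/-!
# The root elements of type `D` are orthogonal in every characteristic: `G0D ≤ OQ` (lead)
-/

set_option autoImplicit false

namespace Cfsg.Agent.AutPO

open Matrix Cfsg Cfsg.Agent.Lib.Helper5.GLBN Cfsg.Agent.Lib.Helper8.SpBN
  Cfsg.Agent.Lib.Helper8.Tw Cfsg.Agent.Lib.Helper8.AutSp Cfsg.Agent.PSUT Cfsg.Agent.AutPSU
  Cfsg.Agent.RootBN
open scoped MatrixGroups

variable {N : ℕ} {F : Type*} [Field F]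

/-- a column supported on two rows which are not mirrors of each other (nor of themselves) is
singular -/
theorem qc_of_support (M : Matrix (Fin N) (Fin N) F) (k r s : Fin N)
    (hM : ∀ i, M i k ≠ 0 → i = r ∨ i = s) (hr : r ≠ r.rev) (hs : s ≠ s.rev) (hrs : s ≠ r.rev) :
    qc M k = 0 := by
  rw [qc_apply]
  apply Finset.sum_eq_zero
  intro i _
  split_ifs with h
  · by_contra hne
    have h1 : M i k ≠ 0 := fun h0 => hne (by rw [h0, zero_mul])
    have h2 : M i.rev k ≠ 0 := fun h0 => hne (by rw [h0, mul_zero])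
    rcases hM i h1 with e1 | e1 <;> rcases hM i.rev h2 with e2 | e2
    · subst e1
      exact hr e2.symm
    · subst e1
      exact hrs e2.symm
    · subst e1
      apply hrs
      rw [← e2, Fin.rev_rev]
    · subst e1
      exact hs e2.symm
  · rfl

/-- the product of two mirrored transvections has singular columns -/
theorem qc_tv_tv (a b : Fin N) (hab : a ≠ b) (ha : a ≠ a.rev) (hb : b ≠ b.rev) (h01 : a ≠ b.rev)
    (c d : F) (k : Fin N) :
    qc ((tv a b hab c * tv b.rev a.rev (fun h => hab (Fin.rev_injective h).symm) d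
      : GL (Fin N) F) : Matrix (Fin N) (Fin N) F) k = 0 := by
  have hent := Cfsg.Agent.Lib.Helper5.AutSU.tv_mul_tv_apply (F := F) a b b.rev a.rev hab
    (fun h => hab (Fin.rev_injective h).symm) hb c d
  have hb' : b.rev ≠ b.rev.rev := by rw [Fin.rev_rev]; exact hb.symm
  have ha' : a.rev ≠ a.rev.rev := by rw [Fin.rev_rev]; exact ha.symm
  have h10 : b ≠ a.rev := fun h => h01 (by rw [h, Fin.rev_rev])
  by_cases hkb : k = b
  · subst hkb
    apply qc_of_support _ k a k _ ha hb h10
    intro i hi
    rw [hent] at hi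
    by_contra hcon
    rw [not_or] at hcon
    apply hi
    rw [if_neg hcon.2, if_neg (fun h => hcon.1 h.1.symm), if_neg, add_zero, add_zero]
    rintro ⟨-, h2⟩
    exact h10 h2.symm
  · by_cases hka : k = a.rev
    · subst hka
      apply qc_of_support _ a.rev b.rev a.rev _ hb' ha'
        (by rw [Fin.rev_rev]; exact fun h => h10 h.symm)
      intro i hi
      rw [hent] at hi
      by_contra hcon
      rw [not_or] at hcon
      apply hi
      rw [if_neg hcon.2, if_neg, if_neg (fun h => hcon.1 h.1.symm), add_zero, add_zero]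
      rintro ⟨-, h2⟩
      exact hkb h2.symm
    · have hk : ∀ i, ((tv a b hab c * tv b.rev a.rev
          (fun h => hab (Fin.rev_injective h).symm) d : GL (Fin N) F)
          : Matrix (Fin N) (Fin N) F) i k ≠ 0 → i = k ∨ i = k := by
        intro i hi
        rw [hent] at hi
        by_contra hcon
        rw [not_or] at hcon
        apply hi
        rw [if_neg hcon.1, if_neg (fun h => hkb h.2.symm), if_neg (fun h => hka h.2.symm),
          add_zero, add_zero]
      rw [qc_apply]
      apply Finset.sum_eq_zero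
      intro i _
      split_ifs with h
      · by_contra hne
        have h1 : ((tv a b hab c * tv b.rev a.rev
          (fun h => hab (Fin.rev_injective h).symm) d : GL (Fin N) F)
          : Matrix (Fin N) (Fin N) F) i k ≠ 0 := fun h0 => hne (by rw [h0, zero_mul])
        have h2 : ((tv a b hab c * tv b.rev a.rev
          (fun h => hab (Fin.rev_injective h).symm) d : GL (Fin N) F)
          : Matrix (Fin N) (Fin N) F) i.rev k ≠ 0 := fun h0 => hne (by rw [h0, mul_zero])
        have e1 : i = k := (hk i h1).elim id id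
        have e2 : i.rev = k := (hk i.rev h2).elim id id
        rw [e1] at h e2
        rw [e2] at h
        exact lt_irrefl _ h
      · rfl

/-- the short node subgroups are orthogonal -/
theorem shortGL_mem_OQ (hN : Even N) {i₀ i₁ : Fin N} (q : Quad i₀ i₁)
    (x : Matrix.SpecialLinearGroup (Fin 2) F) : shortGL (RingHom.id F) q x ∈ OQ N F hN := by
  apply sl2_map_mem (shortGL (RingHom.id F) q) (OQ N F hN)
  · intro t
    refine ⟨shortGL_mem_UH (RingHom.id F) idInv q _, fun k => ?_⟩
    rw [shortGL_upT]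
    exact qc_tv_tv i₀ i₁ q.ne q.h00 q.h11 q.h01 _ _ k
  · intro t
    refine ⟨shortGL_mem_UH (RingHom.id F) idInv q _, fun k => ?_⟩
    rw [shortGL_loT]
    exact qc_tv_tv i₁ i₀ q.ne.symm q.h11 q.h00 q.h10 _ _ k

/-- `G0D` consists of orthogonal matrices -/
theorem G0D_le_OQ (κ : ℕ) (hN : N = 2 * κ + 4) (hE : Even N) (g : ↥(N1 N F (RingHom.id F)))
    (hg : g ∈ G0D κ hN) : gl g ∈ OQ N F hE := by
  have key : G0D κ hN ≤ (OQ N F hE).comap
      ((Subgroup.subtype _).comp (Subgroup.subtype (N1 N F (RingHom.id F)))) := by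
    apply G0D_le
    · intro j hj t
      exact ⟨shortGL_mem_OQ hE (quad j hj) _, shortGL_mem_OQ hE (quad j hj) _⟩
    · intro t
      exact ⟨shortGL_mem_OQ hE (forkQuad κ hN) _, shortGL_mem_OQ hE (forkQuad κ hN) _⟩
  exact key hg

end Cfsg.Agent.AutPO
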