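import Cfsg.Agent.Lib.Lead.AutPO.DNodes
import Cfsg.Agent.Lib.Lead.AutPSU.SL2Gen
import Mathlib

/-!
# The graph automorphism of `Ω⁺_{2κ+4}`: conjugation by the reflection swapping the two middle
coordinates exchanges the last chain node and the fork node (lead)
-/

set_option autoImplicit false

namespace Cfsg.Agent.AutPO

open Matrix Cfsg Cfsg.Agent.Lib.Helper5.GLBN Cfsg.Agent.Lib.Helper8.SpBN
  Cfsg.Agent.Lib.Helper8.Tw Cfsg.Agent.Lib.Helper8.AutSp Cfsg.Agent.PSUT Cfsg.Agent.AutPSU
  Cfsg.Agent.TwRankOne Cfsg.Agent.TwRankOne.Shape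
open scoped MatrixGroups

variable {N : ℕ} {F : Type*} [Field F]

/-- conjugating a transvection by a permutation matrix -/
theorem permGL_conj_tv (σ : Equiv.Perm (Fin N)) (i j : Fin N) (hij : i ≠ j) (c : F) :
    (permGL σ : GL (Fin N) F) * tv i j hij c * (permGL σ)⁻¹ =
      tv (σ i) (σ j) (fun h => hij (σ.injective h)) c := by
  rw [mul_inv_eq_iff_eq_mul]
  apply Units.ext
  ext a b
  rw [Units.val_mul, Units.val_mul, permGL_coe, pm_mul_apply, mul_pm_apply, tv_coe, tv_coe,
    transvection_apply, transvection_apply]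
  have h1 : (σ⁻¹ a = b) ↔ (a = σ b) := by
    constructor
    · intro h; rw [← h]; simp
    · intro h; rw [h]; simp
  have h2 : (i = σ⁻¹ a ∧ j = b) ↔ (σ i = a ∧ σ j = σ b) := by
    constructor
    · rintro ⟨rfl, rfl⟩; simp
    · rintro ⟨h, h'⟩
      refine ⟨?_, σ.injective h'⟩
      rw [← h]; simp
  simp only [h1, h2]

theorem revC_swap_rev (k : Fin N) : revC (Equiv.swap k k.rev) = Equiv.swap k k.rev := by
  ext i
  rw [revC_apply]
  by_cases h1 : i = k
  · subst h1
    rw [Equiv.swap_apply_right, Equiv.swap_apply_left]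
  · by_cases h2 : i = k.rev
    · subst h2
      rw [Fin.rev_rev, Equiv.swap_apply_left, Equiv.swap_apply_right, Fin.rev_rev]
    · rw [Equiv.swap_apply_of_ne_of_ne h1 h2, Equiv.swap_apply_of_ne_of_ne, Fin.rev_rev]
      · intro h
        apply h2
        rw [← h, Fin.rev_rev]
      · intro h
        exact h1 (Fin.rev_injective h)

/-- the permutation matrix of a swap of a coordinate with its mirror is unitary -/
theorem swap_rev_mem_UH (φ : F →+* F) (k : Fin N) :
    (permGL (Equiv.swap k k.rev) : GL (Fin N) F) ∈ UH N F φ := by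
  rw [mem_UH, usig_permGL, revC_swap_rev]

/-- the reflection swapping the two middle coordinates -/
def rflU (κ : ℕ) (hN : N = 2 * κ + 4) : ↥(UH N F (RingHom.id F)) :=
  ⟨permGL (Equiv.swap (ix N (κ + 1) (by omega)) (ix N (κ + 1) (by omega)).rev),
    swap_rev_mem_UH _ _⟩

theorem rflU_coe (κ : ℕ) (hN : N = 2 * κ + 4) :
    ((rflU (F := F) κ hN : ↥(UH N F (RingHom.id F))) : GL (Fin N) F)
      = permGL (Equiv.swap (ix N (κ + 1) (by omega)) (ix N (κ + 1) (by omega)).rev) := rfl

theorem conj_mul_aux {G : Type*} [Group G] (a b c : G) :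
    a * (b * c) * a⁻¹ = (a * b * a⁻¹) * (a * c * a⁻¹) := by group

/-- the reflection carries the last chain node to the fork node -/
theorem conj_rfl_sO (κ : ℕ) (hN : N = 2 * κ + 4) (x : Matrix.SpecialLinearGroup (Fin 2) F) :
    conjU (rflU κ hN) (sO κ (by omega) x) = fO κ hN x := by
  have key : (conjU (rflU (F := F) κ hN)).toMonoidHom.comp (sO κ (by omega)) = fO κ hN := by
    apply sl2_hom_ext
    · intro t
      apply gl_injective
      show gl (conjU (rflU κ hN) (sO κ (by omega) (upT t))) = _
      rw [gl_conjU, gl_sO, gl_fO, shortGL_upT, shortGL_upT, rflU_coe, conj_mul_aux,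
        permGL_conj_tv, permGL_conj_tv]
      congr 1
      · apply tv_congr'
        · exact Equiv.swap_apply_of_ne_of_ne (ix_ne _ _ (by omega)) (ix_ne_rev _ _ (by omega))
        · exact Equiv.swap_apply_left _ _
        · rfl
      · apply tv_congr'
        · rw [Fin.rev_rev]
          exact Equiv.swap_apply_right _ _
        · exact Equiv.swap_apply_of_ne_of_ne (ix_ne_rev _ _ (by omega)).symm
            (ix_rev_ne_rev _ _ (by omega))
        · rfl
    · intro t
      apply gl_injective
      show gl (conjU (rflU κ hN) (sO κ (by omega) (loT t))) = _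
      rw [gl_conjU, gl_sO, gl_fO, shortGL_loT, shortGL_loT, rflU_coe, conj_mul_aux,
        permGL_conj_tv, permGL_conj_tv]
      congr 1
      · apply tv_congr'
        · exact Equiv.swap_apply_left _ _
        · exact Equiv.swap_apply_of_ne_of_ne (ix_ne _ _ (by omega)) (ix_ne_rev _ _ (by omega))
        · rfl
      · apply tv_congr'
        · exact Equiv.swap_apply_of_ne_of_ne (ix_ne_rev _ _ (by omega)).symm
            (ix_rev_ne_rev _ _ (by omega))
        · rw [Fin.rev_rev]
          exact Equiv.swap_apply_right _ _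
        · rfl
  exact DFunLike.congr_fun key x

/-- the reflection is an involution -/
theorem conj_rfl_rfl (κ : ℕ) (hN : N = 2 * κ + 4) (g : ↥(N1 N F (RingHom.id F))) :
    conjU (rflU κ hN) (conjU (rflU κ hN) g) = g := by
  apply gl_injective
  rw [gl_conjU, gl_conjU, rflU_coe]
  have h : (permGL (Equiv.swap (ix N (κ + 1) (by omega)) (ix N (κ + 1) (by omega)).rev)
      : GL (Fin N) F) * permGL (Equiv.swap (ix N (κ + 1) (by omega)) (ix N (κ + 1) (by omega)).rev)
      = 1 := by
    rw [← map_mul, Equiv.swap_mul_self, map_one]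
  have h' := eq_inv_of_mul_eq_one_left h
  rw [← h']
  calc _ = (permGL (Equiv.swap (ix N (κ + 1) (by omega)) (ix N (κ + 1) (by omega)).rev)
        * permGL (Equiv.swap (ix N (κ + 1) (by omega)) (ix N (κ + 1) (by omega)).rev)) * gl g
        * (permGL (Equiv.swap (ix N (κ + 1) (by omega)) (ix N (κ + 1) (by omega)).rev)
        * permGL (Equiv.swap (ix N (κ + 1) (by omega)) (ix N (κ + 1) (by omega)).rev)) := by group
    _ = gl g := by rw [h, one_mul, mul_one]

/-- the reflection carries the fork node to the last chain node -/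
theorem conj_rfl_fO (κ : ℕ) (hN : N = 2 * κ + 4) (x : Matrix.SpecialLinearGroup (Fin 2) F) :
    conjU (rflU κ hN) (fO κ hN x) = sO κ (by omega) x := by
  rw [← conj_rfl_sO, conj_rfl_rfl]

/-- the reflection fixes the other chain nodes -/
theorem conj_rfl_sO_lt (κ : ℕ) (hN : N = 2 * κ + 4) (j : ℕ) (hj : j < κ)
    (x : Matrix.SpecialLinearGroup (Fin 2) F) :
    conjU (rflU κ hN) (sO j (by omega) x) = sO j (by omega) x := by
  have key : (conjU (rflU (F := F) κ hN)).toMonoidHom.comp (sO j (by omega)) = sO j (by omega) := by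
    apply sl2_hom_ext
    · intro t
      apply gl_injective
      show gl (conjU (rflU κ hN) (sO j (by omega) (upT t))) = _
      rw [gl_conjU, gl_sO, shortGL_upT, rflU_coe, conj_mul_aux, permGL_conj_tv, permGL_conj_tv]
      congr 1
      · apply tv_congr'
        · exact Equiv.swap_apply_of_ne_of_ne (ix_ne _ _ (by omega)) (ix_ne_rev _ _ (by omega))
        · exact Equiv.swap_apply_of_ne_of_ne (ix_ne _ _ (by omega)) (ix_ne_rev _ _ (by omega))
        · rfl
      · apply tv_congr'
        · exact Equiv.swap_apply_of_ne_of_ne (ix_ne_rev _ _ (by omega)).symm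
            (ix_rev_ne_rev _ _ (by omega))
        · exact Equiv.swap_apply_of_ne_of_ne (ix_ne_rev _ _ (by omega)).symm
            (ix_rev_ne_rev _ _ (by omega))
        · rfl
    · intro t
      apply gl_injective
      show gl (conjU (rflU κ hN) (sO j (by omega) (loT t))) = _
      rw [gl_conjU, gl_sO, shortGL_loT, rflU_coe, conj_mul_aux, permGL_conj_tv, permGL_conj_tv]
      congr 1
      · apply tv_congr'
        · exact Equiv.swap_apply_of_ne_of_ne (ix_ne _ _ (by omega)) (ix_ne_rev _ _ (by omega))
        · exact Equiv.swap_apply_of_ne_of_ne (ix_ne _ _ (by omega)) (ix_ne_rev _ _ (by omega))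
        · rfl
      · apply tv_congr'
        · exact Equiv.swap_apply_of_ne_of_ne (ix_ne_rev _ _ (by omega)).symm
            (ix_rev_ne_rev _ _ (by omega))
        · exact Equiv.swap_apply_of_ne_of_ne (ix_ne_rev _ _ (by omega)).symm
            (ix_rev_ne_rev _ _ (by omega))
        · rfl
  exact DFunLike.congr_fun key x

end Cfsg.Agent.AutPO
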