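import Cfsg.Agent.Lib.Lead.AutPO.OMain
import Cfsg.Agent.Lib.Lead.AutPSU.UBridge
import Mathlib

/-!
# The model theorem for `Ω_{2κ+3}` (lead)
-/

set_option autoImplicit false

namespace Cfsg.Agent.AutPO

open Matrix Cfsg Cfsg.Agent.Lib.Helper5.GLBN Cfsg.Agent.Lib.Helper8.SpBN
  Cfsg.Agent.Lib.Helper8.Tw Cfsg.Agent.Lib.Helper8.AutSp Cfsg.Agent.PSUT Cfsg.Agent.AutPSU
  Cfsg.Agent.TwRankOne Cfsg.Agent.TwRankOne.Shape
open scoped MatrixGroups

variable {N : ℕ} {F : Type*} [Field F]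

/-! ### the bridge to helper5's root elements -/

theorem sO_upT (j : ℕ) (hj : 2 * j + 4 ≤ N) (t : F) :
    sO j hj (upT t) = Cfsg.Agent.Lib.Helper5.AutSU.xpS idInv j hj t := by
  apply gl_injective
  rw [gl_sO, shortGL_upT]
  rfl

theorem sO_loT (j : ℕ) (hj : 2 * j + 4 ≤ N) (t : F) :
    sO j hj (loT t) = Cfsg.Agent.Lib.Helper5.AutSU.xmS idInv j hj t := by
  apply gl_injective
  rw [gl_sO, shortGL_loT]
  rfl

theorem midGL_eq_xpO {φ : F →+* F} (hφ : ∀ x, φ (φ x) = x) (κ : ℕ) (hN : N = 2 * κ + 3) (a b : F)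
    (h : b + φ b + a * φ a = 0) :
    midGL φ κ hN a b = gl (Cfsg.Agent.Lib.Helper5.AutSU.xpO hφ κ hN.symm a b h) := by
  unfold midGL
  rw [X3_eq_tv, map_mul, map_mul, embGL_tv, embGL_tv, embGL_tv]
  show _ = Cfsg.Agent.Lib.Helper5.AutSU.xO φ _ _ _ _ _ a b
  unfold Cfsg.Agent.Lib.Helper5.AutSU.xO
  congr 1
  · congr 1
    apply tv_congr rfl
    apply Fin.ext
    show κ + 2 = _
    rw [Fin.val_rev]
    show κ + 2 = N - (κ + 1)
    omega
  · apply tv_congr rfl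
    apply Fin.ext
    show κ + 2 = _
    rw [Fin.val_rev]
    show κ + 2 = N - (κ + 1)
    omega

theorem midGLY_eq_xmO {φ : F →+* F} (hφ : ∀ x, φ (φ x) = x) (κ : ℕ) (hN : N = 2 * κ + 3) (a b : F)
    (h' : b + φ b + a * φ a = 0) :
    midGLY φ κ hN (-(φ a)) b = gl (Cfsg.Agent.Lib.Helper5.AutSU.xmO hφ κ hN.symm a b h') := by
  unfold midGLY
  rw [Y3_eq_tv φ hφ, map_mul, map_mul, embGL_tv, embGL_tv, embGL_tv]
  show _ = Cfsg.Agent.Lib.Helper5.AutSU.xO φ _ _ _ _ _ a b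
  unfold Cfsg.Agent.Lib.Helper5.AutSU.xO
  congr 1
  · congr 1
    apply tv_congr rfl
    apply Fin.ext
    show κ = _
    rw [Fin.val_rev]
    show κ = N - (κ + 2 + 1)
    omega
  · apply tv_congr rfl
    apply Fin.ext
    show κ = _
    rw [Fin.val_rev]
    show κ = N - (κ + 2 + 1)
    omega

/-- the upper root elements of the last node are the images of `upT` -/
theorem xpO_eq_symHom (h2 : (2 : F) ≠ 0) (κ : ℕ) (hN : N = 2 * κ + 3) (a b : F)
    (h : b + (RingHom.id F) b + a * (RingHom.id F) a = 0) :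
    Cfsg.Agent.Lib.Helper5.AutSU.xpO idInv κ hN.symm a b h = symHom h2 κ hN (upT a) := by
  apply gl_injective
  rw [gl_symHom, symGL_upT, ← midGL_eq_xpO idInv κ hN a b h]
  congr 1
  simp only [RingHom.id_apply] at h
  field_simp
  linear_combination h

/-- the lower root elements of the last node are the images of `loT` -/
theorem xmO_eq_symHom (h2 : (2 : F) ≠ 0) (κ : ℕ) (hN : N = 2 * κ + 3) (a b : F)
    (h : b + (RingHom.id F) b + a * (RingHom.id F) a = 0) :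
    Cfsg.Agent.Lib.Helper5.AutSU.xmO idInv κ hN.symm a b h = symHom h2 κ hN (loT (-a / 2)) := by
  apply gl_injective
  rw [gl_symHom, symGL_loT, ← midGLY_eq_xmO idInv κ hN a b h]
  simp only [RingHom.id_apply] at h
  congr 1
  · simp only [RingHom.id_apply]
    field_simp
  · field_simp
    linear_combination h

namespace BCtx

variable {Q : Type*} [Group Q] (C : BCtx N F Q)

/-- the description of the elements of the fundamental root groups -/
theorem root_param [Fintype F] (i : ℕ) (hi : i < N / 2) (g : ↥(N1 N F (RingHom.id F))) :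
    (g ∈ Cfsg.Agent.Lib.Helper5.AutSU.Xp N F (RingHom.id F) i →
      (∃ (hi' : 2 * i + 4 ≤ N) (t : F), g = sO i hi' (upT t)) ∨
      (i = C.κ ∧ ∃ t : F, g = symHom C.h2 C.κ C.hN (upT t))) ∧
    (g ∈ Cfsg.Agent.Lib.Helper5.AutSU.Xm N F (RingHom.id F) i →
      (∃ (hi' : 2 * i + 4 ≤ N) (t : F), g = sO i hi' (loT t)) ∨
      (i = C.κ ∧ ∃ t : F, g = symHom C.h2 C.κ C.hN (loT t))) := by
  have hN := C.hN
  by_cases hi' : 2 * i + 4 ≤ N
  · constructor
    · intro hg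
      obtain ⟨t, rfl⟩ := (Cfsg.Agent.Lib.Helper5.AutSU.mem_Xp_short_iff idInv hi').1 hg
      exact Or.inl ⟨hi', t, (sO_upT i hi' t).symm⟩
    · intro hg
      obtain ⟨t, rfl⟩ := (Cfsg.Agent.Lib.Helper5.AutSU.mem_Xm_short_iff idInv hi').1 hg
      exact Or.inl ⟨hi', t, (sO_loT i hi' t).symm⟩
  · have hiκ : i = C.κ := by omega
    subst hiκ
    constructor
    · intro hg
      obtain ⟨a, b, hb, rfl⟩ :=
        (Cfsg.Agent.Lib.Helper5.AutSU.mem_Xp_odd_iff idInv hN.symm).1 hg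
      exact Or.inr ⟨rfl, a, xpO_eq_symHom C.h2 C.κ hN a b hb⟩
    · intro hg
      obtain ⟨a, b, hb, rfl⟩ :=
        (Cfsg.Agent.Lib.Helper5.AutSU.mem_Xm_odd_iff idInv hN.symm).1 hg
      exact Or.inr ⟨rfl, -a / 2, xmO_eq_symHom C.h2 C.κ hN a b hb⟩

theorem sO_upT_mem [Fintype F] (i : ℕ) (hi : 2 * i + 4 ≤ N) (t : F) :
    sO i hi (upT t) ∈ Cfsg.Agent.Lib.Helper5.AutSU.Xp N F (RingHom.id F) i := by
  rw [sO_upT]
  exact Cfsg.Agent.Lib.Helper5.AutSU.xpS_mem_Xp idInv i hi t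

theorem sO_loT_mem [Fintype F] (i : ℕ) (hi : 2 * i + 4 ≤ N) (t : F) :
    sO i hi (loT t) ∈ Cfsg.Agent.Lib.Helper5.AutSU.Xm N F (RingHom.id F) i := by
  rw [sO_loT]
  exact Cfsg.Agent.Lib.Helper5.AutSU.xmS_mem_Xm idInv i hi t

theorem sym_upT_mem [Fintype F] (t : F) :
    symHom C.h2 C.κ C.hN (upT t) ∈ Cfsg.Agent.Lib.Helper5.AutSU.Xp N F (RingHom.id F) C.κ := by
  have hb : -(t * t) / 2 + (RingHom.id F) (-(t * t) / 2) + t * (RingHom.id F) t = 0 := by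
    have := C.h2
    simp only [RingHom.id_apply]
    field_simp
    ring
  rw [← xpO_eq_symHom C.h2 C.κ C.hN t _ hb]
  exact Cfsg.Agent.Lib.Helper5.AutSU.xpO_mem_Xp idInv C.κ C.hN.symm t _ hb

theorem sym_loT_mem [Fintype F] (t : F) :
    symHom C.h2 C.κ C.hN (loT t) ∈ Cfsg.Agent.Lib.Helper5.AutSU.Xm N F (RingHom.id F) C.κ := by
  have hb : -(2 * (t * t)) + (RingHom.id F) (-(2 * (t * t)))
      + (-(2 * t)) * (RingHom.id F) (-(2 * t)) = 0 := by
    simp only [RingHom.id_apply]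
    ring
  have e := xmO_eq_symHom C.h2 C.κ C.hN (-(2 * t)) _ hb
  have e2 : -(-(2 * t)) / 2 = t := by
    have := C.h2
    field_simp
  rw [e2] at e
  rw [← e]
  exact Cfsg.Agent.Lib.Helper5.AutSU.xmO_mem_Xm idInv C.κ C.hN.symm _ _ hb

/-- **The model theorem for `Ω_{2κ+3}`.** An automorphism of the central quotient preserving the
fundamental root groups is a standard automorphism `g ↦ d ψ(g) d⁻¹`, provided the root groups
generate. -/
theorem model_aut [Fintype F] (hPhi : C.PhiInv) (th : Q ≃* Q)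
    (hXp : ∀ i, i < N / 2 → ∀ g : ↥C.G0,
      g.1 ∈ Cfsg.Agent.Lib.Helper5.AutSU.Xp N F (RingHom.id F) i →
      ∃ g' : ↥C.G0, g'.1 ∈ Cfsg.Agent.Lib.Helper5.AutSU.Xp N F (RingHom.id F) i ∧
        th (C.f g) = C.f g')
    (hXm : ∀ i, i < N / 2 → ∀ g : ↥C.G0,
      g.1 ∈ Cfsg.Agent.Lib.Helper5.AutSU.Xm N F (RingHom.id F) i →
      ∃ g' : ↥C.G0, g'.1 ∈ Cfsg.Agent.Lib.Helper5.AutSU.Xm N F (RingHom.id F) i ∧
        th (C.f g) = C.f g')
    (hgen : ∀ H : Subgroup ↥(N1 N F (RingHom.id F)),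
      (∀ i, i < N / 2 → Cfsg.Agent.Lib.Helper5.AutSU.Xp N F (RingHom.id F) i ≤ H ∧
        Cfsg.Agent.Lib.Helper5.AutSU.Xm N F (RingHom.id F) i ≤ H) → C.G0 ≤ H) :
    ∃ (ψ : F ≃+* F) (d : Fin N → Fˣ) (hd : ∀ i, (d i : F) * (RingHom.id F) (d i.rev) = 1),
      ∀ g : ↥C.G0, th (C.f g) = C.f (C.PhiR hPhi ψ d hd g) := by
  have hN := C.hN
  obtain ⟨ψ, d, hd, h1, h2, h3, h4⟩ := C.B_main hPhi th
    (by
      intro i hi u
      obtain ⟨g', hg', e⟩ := hXp i (by omega) (C.sN i hi (upT u)) (sO_upT_mem i hi u)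
      rcases (C.root_param i (by omega) g'.1).1 hg' with ⟨hi', v, hv⟩ | ⟨hiκ, -⟩
      · exact ⟨v, by rw [e]; congr 1; exact Subtype.ext hv⟩
      · omega)
    (by
      intro i hi u
      obtain ⟨g', hg', e⟩ := hXm i (by omega) (C.sN i hi (loT u)) (sO_loT_mem i hi u)
      rcases (C.root_param i (by omega) g'.1).2 hg' with ⟨hi', v, hv⟩ | ⟨hiκ, -⟩
      · exact ⟨v, by rw [e]; congr 1; exact Subtype.ext hv⟩
      · omega)
    (by
      intro u
      obtain ⟨g', hg', e⟩ := hXp C.κ (by omega) (C.mN (upT u)) (C.sym_upT_mem u)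
      rcases (C.root_param C.κ (by omega) g'.1).1 hg' with ⟨hi', -, -⟩ | ⟨-, v, hv⟩
      · omega
      · exact ⟨v, by rw [e]; congr 1; exact Subtype.ext hv⟩)
    (by
      intro u
      obtain ⟨g', hg', e⟩ := hXm C.κ (by omega) (C.mN (loT u)) (C.sym_loT_mem u)
      rcases (C.root_param C.κ (by omega) g'.1).2 hg' with ⟨hi', -, -⟩ | ⟨-, v, hv⟩
      · omega
      · exact ⟨v, by rw [e]; congr 1; exact Subtype.ext hv⟩)
  refine ⟨ψ, d, hd, ?_⟩
  set E : Subgroup ↥C.G0 :=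
    (th.toMonoidHom.comp C.f).eqLocus (C.f.comp (C.PhiR hPhi ψ d hd)) with hE
  have hle : C.G0 ≤ E.map C.G0.subtype := by
    apply hgen
    intro i hi
    constructor
    · intro g hg
      rcases (C.root_param i hi g).1 hg with ⟨hi', t, rfl⟩ | ⟨hiκ, t, rfl⟩
      · exact ⟨C.sN i hi' (upT t), h1 i hi' t, rfl⟩
      · exact ⟨C.mN (upT t), h3 t, rfl⟩
    · intro g hg
      rcases (C.root_param i hi g).2 hg with ⟨hi', t, rfl⟩ | ⟨hiκ, t, rfl⟩
      · exact ⟨C.sN i hi' (loT t), h2 i hi' t, rfl⟩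
      · exact ⟨C.mN (loT t), h4 t, rfl⟩
  intro g
  obtain ⟨e, he, heg⟩ := hle g.2
  have : e = g := Subtype.ext heg
  rw [← this]
  exact he

end BCtx

end Cfsg.Agent.AutPO
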