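import Cfsg.Agent.Lib.Lead.AutPO.DMain
import Cfsg.Agent.Lib.Lead.AutPO.DRefl
import Mathlib

/-!
# The subgroup of `SO_N` (`N = 2 κ + 4`) generated by the root subgroups of type `D` (lead)

`G0D κ hN` : the subgroup generated by the images of the elementary matrices under the node homomorphisms
`sO j` (`j ≤ κ`) and `fO`; it contains the images of the node homomorphisms, is invariant under the standard
automorphisms `PhiS` and under the reflection, and (tautologically) is generated by the root elements.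
-/

set_option autoImplicit false

namespace Cfsg.Agent.AutPO

open Matrix Cfsg Cfsg.Agent.Lib.Helper5.GLBN Cfsg.Agent.Lib.Helper8.SpBN
  Cfsg.Agent.Lib.Helper8.Tw Cfsg.Agent.Lib.Helper8.AutSp Cfsg.Agent.PSUT Cfsg.Agent.AutPSU
  Cfsg.Agent.TwRankOne Cfsg.Agent.TwRankOne.Shape
open scoped MatrixGroups

variable {N : ℕ} {F : Type*} [Field F]

/-- the root elements of type `D` -/
def rootSetD (κ : ℕ) (hN : N = 2 * κ + 4) : Set ↥(N1 N F (RingHom.id F)) :=
  {g | (∃ (j : ℕ) (hj : 2 * j + 4 ≤ N) (t : F), g = sO j hj (upT t) ∨ g = sO j hj (loT t)) ∨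
    ∃ t : F, g = fO κ hN (upT t) ∨ g = fO κ hN (loT t)}

/-- the subgroup generated by the root elements of type `D` -/
def G0D (κ : ℕ) (hN : N = 2 * κ + 4) : Subgroup ↥(N1 N F (RingHom.id F)) :=
  Subgroup.closure (rootSetD κ hN)

theorem sO_mem_G0D (κ : ℕ) (hN : N = 2 * κ + 4) (j : ℕ) (hj : 2 * j + 4 ≤ N)
    (x : Matrix.SpecialLinearGroup (Fin 2) F) : sO j hj x ∈ G0D (F := F) κ hN := by
  apply sl2_map_mem (sO j hj) (G0D κ hN)
  · intro t
    exact Subgroup.subset_closure (Or.inl ⟨j, hj, t, Or.inl rfl⟩)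
  · intro t
    exact Subgroup.subset_closure (Or.inl ⟨j, hj, t, Or.inr rfl⟩)

theorem fO_mem_G0D (κ : ℕ) (hN : N = 2 * κ + 4) (x : Matrix.SpecialLinearGroup (Fin 2) F) :
    fO κ hN x ∈ G0D (F := F) κ hN := by
  apply sl2_map_mem (fO κ hN) (G0D κ hN)
  · intro t
    exact Subgroup.subset_closure (Or.inr ⟨t, Or.inl rfl⟩)
  · intro t
    exact Subgroup.subset_closure (Or.inr ⟨t, Or.inr rfl⟩)

/-- a subgroup containing the root elements contains `G0D` -/
theorem G0D_le (κ : ℕ) (hN : N = 2 * κ + 4) (H : Subgroup ↥(N1 N F (RingHom.id F)))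
    (h1 : ∀ (j : ℕ) (hj : 2 * j + 4 ≤ N) (t : F), sO j hj (upT t) ∈ H ∧ sO j hj (loT t) ∈ H)
    (h2 : ∀ t : F, fO κ hN (upT t) ∈ H ∧ fO κ hN (loT t) ∈ H) : G0D κ hN ≤ H := by
  unfold G0D
  rw [Subgroup.closure_le]
  rintro g (⟨j, hj, t, rfl | rfl⟩ | ⟨t, rfl | rfl⟩)
  · exact (h1 j hj t).1
  · exact (h1 j hj t).2
  · exact (h2 t).1
  · exact (h2 t).2

/-- the standard automorphisms preserve `G0D` -/
theorem PhiS_mem_G0D (κ : ℕ) (hN : N = 2 * κ + 4) (ψ : F ≃+* F) (d : Fin N → Fˣ) (μ : Fˣ)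
    (hd : ∀ i, (d i : F) * (RingHom.id F) (d i.rev) = μ) (g : ↥(N1 N F (RingHom.id F)))
    (hg : g ∈ G0D κ hN) : PhiS ψ (idComm ψ) d μ hd g ∈ G0D κ hN := by
  have h := G0D_le κ hN ((G0D κ hN).comap (PhiS ψ (idComm ψ) d μ hd).toMonoidHom)
    (by
      intro j hj t
      constructor
      · show PhiS ψ (idComm ψ) d μ hd (sO j hj (upT t)) ∈ G0D κ hN
        have e : PhiS ψ (idComm ψ) d μ hd (sO j hj (upT t))
            = sO j hj (upT ((d (ix N j (by omega)) : F) * ψ t
              * ((d (ix N (j + 1) (by omega)))⁻¹ : Fˣ))) := by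
          apply gl_injective
          rw [gl_PhiS, gl_sO, gl_sO, conjS_map_short_up ψ (idComm ψ) d μ hd]
        rw [e]
        exact sO_mem_G0D κ hN j hj _
      · show PhiS ψ (idComm ψ) d μ hd (sO j hj (loT t)) ∈ G0D κ hN
        have e : PhiS ψ (idComm ψ) d μ hd (sO j hj (loT t))
            = sO j hj (loT ((d (ix N (j + 1) (by omega)) : F) * ψ t
              * ((d (ix N j (by omega)))⁻¹ : Fˣ))) := by
          apply gl_injective
          rw [gl_PhiS, gl_sO, gl_sO, conjS_map_short_lo ψ (idComm ψ) d μ hd]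
        rw [e]
        exact sO_mem_G0D κ hN j hj _)
    (by
      intro t
      constructor
      · show PhiS ψ (idComm ψ) d μ hd (fO κ hN (upT t)) ∈ G0D κ hN
        have e : PhiS ψ (idComm ψ) d μ hd (fO κ hN (upT t))
            = fO κ hN (upT ((d (ix N κ (by omega)) : F) * ψ t
              * ((d (ix N (κ + 1) (by omega)).rev)⁻¹ : Fˣ))) := by
          apply gl_injective
          rw [gl_PhiS, gl_fO, gl_fO, conjS_map_short_up ψ (idComm ψ) d μ hd]
        rw [e]
        exact fO_mem_G0D κ hN _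
      · show PhiS ψ (idComm ψ) d μ hd (fO κ hN (loT t)) ∈ G0D κ hN
        have e : PhiS ψ (idComm ψ) d μ hd (fO κ hN (loT t))
            = fO κ hN (loT ((d (ix N (κ + 1) (by omega)).rev : F) * ψ t
              * ((d (ix N κ (by omega)))⁻¹ : Fˣ))) := by
          apply gl_injective
          rw [gl_PhiS, gl_fO, gl_fO, conjS_map_short_lo ψ (idComm ψ) d μ hd]
        rw [e]
        exact fO_mem_G0D κ hN _)
  exact h hg

/-- the reflection preserves `G0D` -/
theorem rfl_mem_G0D (κ : ℕ) (hN : N = 2 * κ + 4) (g : ↥(N1 N F (RingHom.id F)))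
    (hg : g ∈ G0D κ hN) : conjU (rflU κ hN) g ∈ G0D κ hN := by
  have h := G0D_le κ hN ((G0D κ hN).comap (conjU (rflU (F := F) κ hN)).toMonoidHom)
    (by
      intro j hj t
      have hjκ : j ≤ κ := by omega
      rcases Nat.lt_or_ge j κ with h1 | h1
      · constructor
        · show conjU (rflU κ hN) (sO j hj (upT t)) ∈ G0D κ hN
          rw [conj_rfl_sO_lt κ hN j h1]
          exact sO_mem_G0D κ hN j _ _
        · show conjU (rflU κ hN) (sO j hj (loT t)) ∈ G0D κ hN
          rw [conj_rfl_sO_lt κ hN j h1]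
          exact sO_mem_G0D κ hN j _ _
      · have hj' : j = κ := by omega
        subst hj'
        constructor
        · show conjU (rflU j hN) (sO j hj (upT t)) ∈ G0D j hN
          rw [conj_rfl_sO j hN]
          exact fO_mem_G0D j hN _
        · show conjU (rflU j hN) (sO j hj (loT t)) ∈ G0D j hN
          rw [conj_rfl_sO j hN]
          exact fO_mem_G0D j hN _)
    (by
      intro t
      constructor
      · show conjU (rflU κ hN) (fO κ hN (upT t)) ∈ G0D κ hN
        rw [conj_rfl_fO κ hN]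
        exact sO_mem_G0D κ hN κ _ _
      · show conjU (rflU κ hN) (fO κ hN (loT t)) ∈ G0D κ hN
        rw [conj_rfl_fO κ hN]
        exact sO_mem_G0D κ hN κ _ _)
  exact h hg

end Cfsg.Agent.AutPO
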