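import Cfsg.Agent.Lib.Lead.AutPO.ONodes
import Mathlib

/-!
# `Ω_{2κ+3}`: an automorphism preserving the fundamental root groups agrees on them with a standard
automorphism `g ↦ d ψ(g) d⁻¹` (lead)
-/

set_option autoImplicit false

namespace Cfsg.Agent.AutPO

open Matrix Cfsg Cfsg.Agent.Lib.Helper5.GLBN Cfsg.Agent.Lib.Helper8.SpBN
  Cfsg.Agent.Lib.Helper8.Tw Cfsg.Agent.Lib.Helper8.AutSp Cfsg.Agent.PSUT Cfsg.Agent.AutPSU
  Cfsg.Agent.TwRankOne Cfsg.Agent.TwRankOne.Shape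
open scoped MatrixGroups

variable {N : ℕ} {F : Type*} [Field F]

section three

variable (φ : F →+* F)

theorem dgU_conj_Y3 (D : Fin 3 → Fˣ) (h1 : (D 1 : F) * φ (D 1) = 1) (h2 : (D 2 : F) * φ (D 0) = 1)
    (a b : F) :
    dgU D * Y3 φ a b * (dgU D)⁻¹
      = Y3 φ ((D 1 : F) * (D 0 : F)⁻¹ * a) ((D 2 : F) * (D 0 : F)⁻¹ * b) := by
  apply Units.ext
  rw [dgU_inv, Units.val_mul, Units.val_mul, dgU_coe, dgU_coe, Y3_val, Y3_val]
  have hD0 : (D 0 : F) ≠ 0 := Units.ne_zero _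
  have hD1 : (D 1 : F) ≠ 0 := Units.ne_zero _
  have hD2 : (D 2 : F) ≠ 0 := Units.ne_zero _
  have e1 : φ (D 1 : F) = (D 1 : F)⁻¹ := eq_inv_of_mul_eq_one_right h1
  have e2 : φ (D 0 : F) = (D 2 : F)⁻¹ := eq_inv_of_mul_eq_one_right h2
  ext i j
  rw [Matrix.mul_diagonal, Matrix.diagonal_mul]
  fin_cases i <;> fin_cases j <;> simp [Y3m, e1, e2]
  all_goals (try field_simp)
  all_goals (try ring)

theorem map_Y3 (ψ : F ≃+* F) (hψ : ∀ x, ψ (φ x) = φ (ψ x)) (a b : F) :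
    Matrix.GeneralLinearGroup.map (ψ : F →+* F) (Y3 φ a b) = Y3 φ (ψ a) (ψ b) := by
  apply Units.ext
  ext i j
  rw [Matrix.GeneralLinearGroup.map_apply, Y3_val, Y3_val]
  fin_cases i <;> fin_cases j <;> simp [Y3m, hψ]

end three

/-- conjugating the lower root elements of the middle node -/
theorem conj_map_midY {φ : F →+* F} (ψ : F ≃+* F) (hψ : ∀ x, ψ (φ x) = φ (ψ x))
    (d : Fin N → Fˣ) (hd : ∀ i, (d i : F) * φ (d i.rev) = 1) (κ : ℕ) (hN : N = 2 * κ + 3)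
    (a b : F) :
    dgU d * Matrix.GeneralLinearGroup.map (ψ : F →+* F) (midGLY φ κ hN a b) * (dgU d)⁻¹
      = midGLY φ κ hN ((d (eM κ hN 1) : F) * (d (eM κ hN 0) : F)⁻¹ * ψ a)
          ((d (eM κ hN 2) : F) * (d (eM κ hN 0) : F)⁻¹ * ψ b) := by
  unfold midGLY
  have e1 : (eM κ hN 1).rev = eM κ hN 1 := by
    have := congrFun (revE_eM κ hN) 1
    rw [revE_apply] at this
    exact this
  have e2 : (eM κ hN 2).rev = eM κ hN 0 := by
    have := congrFun (revE_eM κ hN) 0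
    rw [revE_apply] at this
    exact this
  rw [glMap_embGL, map_Y3 φ ψ hψ, dgU_conj_embGL, dgU_conj_Y3]
  · have := hd (eM κ hN 1)
    rw [e1] at this
    exact this
  · have := hd (eM κ hN 2)
    rw [e2] at this
    exact this

/-- field automorphisms commute with the identity -/
theorem idComm (ψ : F ≃+* F) (x : F) : ψ ((RingHom.id F) x) = (RingHom.id F) (ψ x) := rfl

namespace BCtx

variable {Q : Type*} [Group Q] (C : BCtx N F Q)

/-- invariance of `G0` under the standard automorphisms -/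
def PhiInv : Prop :=
  ∀ (ψ : F ≃+* F) (d : Fin N → Fˣ) (hd : ∀ i, (d i : F) * (RingHom.id F) (d i.rev) = 1)
    (g : ↥(N1 N F (RingHom.id F))), g ∈ C.G0 → Phi ψ (idComm ψ) d hd g ∈ C.G0

/-- the restriction of a standard automorphism to `G0` -/
noncomputable def PhiR (hPhi : C.PhiInv) (ψ : F ≃+* F) (d : Fin N → Fˣ)
    (hd : ∀ i, (d i : F) * (RingHom.id F) (d i.rev) = 1) : ↥C.G0 →* ↥C.G0 where
  toFun g := ⟨Phi ψ (idComm ψ) d hd g.1, hPhi ψ d hd g.1 g.2⟩
  map_one' := Subtype.ext (map_one _)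
  map_mul' a b := Subtype.ext (map_mul _ _ _)

theorem PhiR_coe (hPhi : C.PhiInv) (ψ : F ≃+* F) (d : Fin N → Fˣ)
    (hd : ∀ i, (d i : F) * (RingHom.id F) (d i.rev) = 1) (g : ↥C.G0) :
    ((C.PhiR hPhi ψ d hd g : ↥C.G0) : ↥(N1 N F (RingHom.id F)))
      = Phi ψ (idComm ψ) d hd g.1 := rfl

/-- the families of all the nodes -/
noncomputable def RR (i : Fin (C.κ + 1)) : RFam F Q :=
  if h : i.1 < C.κ then C.RS i.1 (by have := C.hN; omega) else C.RM

theorem RR_lt (i : Fin (C.κ + 1)) (h : i.1 < C.κ) :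
    C.RR i = C.RS i.1 (by have := C.hN; omega) := dif_pos h

theorem RR_last (i : Fin (C.κ + 1)) (h : ¬ i.1 < C.κ) : C.RR i = C.RM := dif_neg h

theorem B_main [Finite F] (hPhi : C.PhiInv) (th : Q ≃* Q)
    (hX : ∀ i (hi : 2 * i + 4 ≤ N) u, ∃ v,
      th (C.f (C.sN i hi (upT u))) = C.f (C.sN i hi (upT v)))
    (hY : ∀ i (hi : 2 * i + 4 ≤ N) u, ∃ v,
      th (C.f (C.sN i hi (loT u))) = C.f (C.sN i hi (loT v)))
    (hXM : ∀ u, ∃ v, th (C.f (C.mN (upT u))) = C.f (C.mN (upT v)))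
    (hYM : ∀ u, ∃ v, th (C.f (C.mN (loT u))) = C.f (C.mN (loT v))) :
    ∃ (ψ : F ≃+* F) (d : Fin N → Fˣ) (hd : ∀ i, (d i : F) * (RingHom.id F) (d i.rev) = 1),
      (∀ i (hi : 2 * i + 4 ≤ N) t, th (C.f (C.sN i hi (upT t)))
        = C.f (C.PhiR hPhi ψ d hd (C.sN i hi (upT t)))) ∧
      (∀ i (hi : 2 * i + 4 ≤ N) t, th (C.f (C.sN i hi (loT t)))
        = C.f (C.PhiR hPhi ψ d hd (C.sN i hi (loT t)))) ∧
      (∀ t, th (C.f (C.mN (upT t))) = C.f (C.PhiR hPhi ψ d hd (C.mN (upT t)))) ∧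
      (∀ t, th (C.f (C.mN (loT t))) = C.f (C.PhiR hPhi ψ d hd (C.mN (loT t)))) := by
  classical
  have hN := C.hN
  obtain ⟨ψ, c, hc⟩ := chain_shape C.RR th
    (by
      intro i h a ha
      by_cases h1 : i.1 + 1 < C.κ
      · rw [C.RR_lt ⟨i.1 + 1, h⟩ h1, C.RR_lt i (by omega)]
        exact C.link_short i.1 (by omega) a ha
      · rw [C.RR_last ⟨i.1 + 1, h⟩ h1, C.RR_lt i (by omega)]
        exact C.link_mid i.1 (by omega) a ha)
    (by
      intro i u
      by_cases h1 : i.1 < C.κ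
      · rw [C.RR_lt i h1]
        exact hX i.1 (by omega) u
      · rw [C.RR_last i h1]
        exact hXM u)
    (by
      intro i u
      by_cases h1 : i.1 < C.κ
      · rw [C.RR_lt i h1]
        exact hY i.1 (by omega) u
      · rw [C.RR_last i h1]
        exact hYM u) (Nat.succ_pos _)
  -- the diagonal matrix
  let c' : ℕ → F := fun i => if h : i < C.κ + 1 then c ⟨i, h⟩ else 1
  have hc' : ∀ i (h : i < C.κ + 1), c' i = c ⟨i, h⟩ := fun i h => dif_pos h
  have hcκ := (hc ⟨C.κ, Nat.lt_succ_self _⟩).1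
  obtain ⟨Dd, hDl, hDs, hD0⟩ := exists_prefix c' (c ⟨C.κ, Nat.lt_succ_self _⟩) (C.κ + 1)
  have hDne : ∀ i, i < C.κ + 1 → Dd i ≠ 0 := by
    apply hD0 _ hcκ
    intro i hi
    rw [hc' i (by omega)]
    exact (hc ⟨i, by omega⟩).1
  obtain ⟨d, hd, hdD, hd1⟩ := exists_diag (N := N) idInv (C.κ + 1) (by omega) Dd hDne
  have hDl' : Dd C.κ = c ⟨C.κ, Nat.lt_succ_self _⟩ := hDl
  have e0 : (d (eM C.κ C.hN 0) : F) = Dd C.κ := hdD C.κ (by omega)
  have e1 : d (eM C.κ C.hN 1) = 1 :=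
    hd1 _ (by rw [eM_val]; simp) (by rw [eM_val]; simp; omega)
  have e2r : (eM C.κ C.hN 2).rev = eM C.κ C.hN 0 := by
    have := congrFun (revE_eM C.κ C.hN) 0
    rw [revE_apply] at this
    exact this
  have e2 : (d (eM C.κ C.hN 2) : F) = (Dd C.κ)⁻¹ := by
    have := hd (eM C.κ C.hN 2)
    rw [e2r, e0, RingHom.id_apply] at this
    exact eq_inv_of_mul_eq_one_left this
  have hDκ := hDne C.κ (by omega)
  refine ⟨ψ, d, hd, ?_, ?_, ?_, ?_⟩
  · intro i hi t
    have hi' : i < C.κ := by omega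
    obtain ⟨-, hX', -, -⟩ := hc ⟨i, by omega⟩
    have := hX' t
    rw [C.RR_lt _ hi', RS_X, RS_X] at this
    rw [this]
    congr 1
    apply Subtype.ext
    rw [PhiR_coe, sN_coe, sN_coe]
    apply gl_injective
    rw [gl_Phi, gl_sO, gl_sO, conj_map_short_up ψ (idComm ψ) d hd]
    congr 2
    rw [Units.val_inv_eq_inv_val, hdD i (by omega), hdD (i + 1) (by omega), hDs i (by omega),
      hc' i (by omega)]
    have := hDne (i + 1) (by omega)
    field_simp
  · intro i hi t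
    have hi' : i < C.κ := by omega
    obtain ⟨hci, -, hY', -⟩ := hc ⟨i, by omega⟩
    have := hY' t
    rw [C.RR_lt _ hi', RS_Y, RS_Y] at this
    rw [this]
    congr 1
    apply Subtype.ext
    rw [PhiR_coe, sN_coe, sN_coe]
    apply gl_injective
    rw [gl_Phi, gl_sO, gl_sO, conj_map_short_lo ψ (idComm ψ) d hd]
    congr 2
    rw [Units.val_inv_eq_inv_val, hdD i (by omega), hdD (i + 1) (by omega), hDs i (by omega),
      hc' i (by omega)]
    have := hDne (i + 1) (by omega)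
    field_simp
  · intro t
    obtain ⟨-, hX', -, -⟩ := hc ⟨C.κ, Nat.lt_succ_self _⟩
    have := hX' t
    rw [C.RR_last _ (lt_irrefl _), RM_X, RM_X] at this
    rw [this]
    congr 1
    apply Subtype.ext
    rw [PhiR_coe, mN_coe, mN_coe]
    apply gl_injective
    rw [gl_Phi, gl_symHom, gl_symHom, symGL_upT, symGL_upT, conj_map_mid ψ (idComm ψ) d hd]
    congr 1
    · rw [e0, e1, hDl']
      simp
    · rw [e0, hDl']
      simp only [RingHom.id_apply, map_div₀, map_neg, map_mul, map_ofNat]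
      ring
  · intro t
    obtain ⟨-, -, hY', -⟩ := hc ⟨C.κ, Nat.lt_succ_self _⟩
    have := hY' t
    rw [C.RR_last _ (lt_irrefl _), RM_Y, RM_Y] at this
    rw [this]
    congr 1
    apply Subtype.ext
    rw [PhiR_coe, mN_coe, mN_coe]
    apply gl_injective
    rw [gl_Phi, gl_symHom, gl_symHom, symGL_loT, symGL_loT, conj_map_midY ψ (idComm ψ) d hd]
    congr 1
    · rw [e0, e1, hDl']
      simp only [Units.val_one, one_mul, map_mul, map_ofNat]
      ring
    · rw [e0, e2, hDl']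
      simp only [map_neg, map_mul, map_ofNat]
      field_simp

end BCtx

end Cfsg.Agent.AutPO
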