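import Cfsg.Agent.Lib.Lead.AutPO.DNodes
import Cfsg.Agent.Lib.Lead.AutPO.OMain
import Mathlib

/-!
# `Ω⁺_{2κ+4}`: an automorphism preserving the fundamental root groups is a standard automorphism
`g ↦ d ψ(g) d⁻¹`, `d` a diagonal similitude (lead)
-/

set_option autoImplicit false

namespace Cfsg.Agent.AutPO

open Matrix Cfsg Cfsg.Agent.Lib.Helper5.GLBN Cfsg.Agent.Lib.Helper8.SpBN
  Cfsg.Agent.Lib.Helper8.Tw Cfsg.Agent.Lib.Helper8.AutSp Cfsg.Agent.PSUT Cfsg.Agent.AutPSU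
  Cfsg.Agent.TwRankOne Cfsg.Agent.TwRankOne.Shape
open scoped MatrixGroups

variable {N : ℕ} {F : Type*} [Field F]

namespace DCtx

variable {Q : Type*} [Group Q] (C : DCtx N F Q)

/-- invariance of `G0` under the standard automorphisms -/
def PhiSInv : Prop :=
  ∀ (ψ : F ≃+* F) (d : Fin N → Fˣ) (μ : Fˣ)
    (hd : ∀ i, (d i : F) * (RingHom.id F) (d i.rev) = μ)
    (g : ↥(N1 N F (RingHom.id F))), g ∈ C.G0 → PhiS ψ (idComm ψ) d μ hd g ∈ C.G0

/-- the restriction of a standard automorphism to `G0` -/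
noncomputable def PhiSR (hPhi : C.PhiSInv) (ψ : F ≃+* F) (d : Fin N → Fˣ) (μ : Fˣ)
    (hd : ∀ i, (d i : F) * (RingHom.id F) (d i.rev) = μ) : ↥C.G0 →* ↥C.G0 where
  toFun g := ⟨PhiS ψ (idComm ψ) d μ hd g.1, hPhi ψ d μ hd g.1 g.2⟩
  map_one' := Subtype.ext (map_one _)
  map_mul' a b := Subtype.ext (map_mul _ _ _)

theorem PhiSR_coe (hPhi : C.PhiSInv) (ψ : F ≃+* F) (d : Fin N → Fˣ) (μ : Fˣ)
    (hd : ∀ i, (d i : F) * (RingHom.id F) (d i.rev) = μ) (g : ↥C.G0) :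
    ((C.PhiSR hPhi ψ d μ hd g : ↥C.G0) : ↥(N1 N F (RingHom.id F)))
      = PhiS ψ (idComm ψ) d μ hd g.1 := rfl

/-- the families of all the nodes: the chain nodes `0, …, κ`, then the fork node -/
noncomputable def RR (i : Fin (C.κ + 2)) : RFam F Q :=
  if h : i.1 ≤ C.κ then C.RS i.1 (by have := C.hN; omega) else C.RF

theorem RR_le (i : Fin (C.κ + 2)) (h : i.1 ≤ C.κ) :
    C.RR i = C.RS i.1 (by have := C.hN; omega) := dif_pos h

theorem RR_fork (i : Fin (C.κ + 2)) (h : ¬ i.1 ≤ C.κ) : C.RR i = C.RF := dif_neg h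

/-- the parent of a node in the tree -/
def par (i : Fin (C.κ + 2)) : Fin (C.κ + 2) :=
  if i.1 ≤ C.κ then ⟨i.1 - 1, by have := i.2; omega⟩ else ⟨C.κ - 1, by omega⟩

theorem par_le (i : Fin (C.κ + 2)) (h : i.1 ≤ C.κ) :
    C.par i = ⟨i.1 - 1, by have := i.2; omega⟩ := if_pos h

theorem par_fork (i : Fin (C.κ + 2)) (h : ¬ i.1 ≤ C.κ) :
    C.par i = ⟨C.κ - 1, by omega⟩ := if_neg h

theorem D_main [Finite F] (hκ : 1 ≤ C.κ) (hPhi : C.PhiSInv) (th : Q ≃* Q)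
    (hX : ∀ i (hi : 2 * i + 4 ≤ N) u, ∃ v,
      th (C.f (C.sN i hi (upT u))) = C.f (C.sN i hi (upT v)))
    (hY : ∀ i (hi : 2 * i + 4 ≤ N) u, ∃ v,
      th (C.f (C.sN i hi (loT u))) = C.f (C.sN i hi (loT v)))
    (hXF : ∀ u, ∃ v, th (C.f (C.fN (upT u))) = C.f (C.fN (upT v)))
    (hYF : ∀ u, ∃ v, th (C.f (C.fN (loT u))) = C.f (C.fN (loT v))) :
    ∃ (ψ : F ≃+* F) (d : Fin N → Fˣ) (μ : Fˣ)
      (hd : ∀ i, (d i : F) * (RingHom.id F) (d i.rev) = μ),
      (∀ i (hi : 2 * i + 4 ≤ N) t, th (C.f (C.sN i hi (upT t)))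
        = C.f (C.PhiSR hPhi ψ d μ hd (C.sN i hi (upT t)))) ∧
      (∀ i (hi : 2 * i + 4 ≤ N) t, th (C.f (C.sN i hi (loT t)))
        = C.f (C.PhiSR hPhi ψ d μ hd (C.sN i hi (loT t)))) ∧
      (∀ t, th (C.f (C.fN (upT t))) = C.f (C.PhiSR hPhi ψ d μ hd (C.fN (upT t)))) ∧
      (∀ t, th (C.f (C.fN (loT t))) = C.f (C.PhiSR hPhi ψ d μ hd (C.fN (loT t)))) := by
  classical
  have hN := C.hN
  obtain ⟨ψ, c, hc⟩ := tree_shape C.RR th C.par
    (by
      intro i h0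
      by_cases h1 : i.1 ≤ C.κ
      · rw [C.par_le i h1]
        show i.1 - 1 < i.1
        omega
      · rw [C.par_fork i h1]
        show C.κ - 1 < i.1
        omega)
    (by
      intro i h0 a ha
      by_cases h1 : i.1 ≤ C.κ
      · rw [C.RR_le i h1, C.par_le i h1, C.RR_le _ (by show i.1 - 1 ≤ C.κ; omega)]
        obtain ⟨i, hi⟩ := i
        obtain ⟨j, rfl⟩ : ∃ j, i = j + 1 := ⟨i - 1, by simp at h0; omega⟩
        exact C.link_short j (by simp at h1; omega) a ha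
      · rw [C.RR_fork i h1, C.par_fork i h1, C.RR_le _ (by show C.κ - 1 ≤ C.κ; omega)]
        exact C.link_fork (C.κ - 1) (by omega) a ha)
    (by
      intro i u
      by_cases h1 : i.1 ≤ C.κ
      · rw [C.RR_le i h1]
        exact hX i.1 (by omega) u
      · rw [C.RR_fork i h1]
        exact hXF u)
    (by
      intro i u
      by_cases h1 : i.1 ≤ C.κ
      · rw [C.RR_le i h1]
        exact hY i.1 (by omega) u
      · rw [C.RR_fork i h1]
        exact hYF u) (Nat.succ_pos _)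
  -- the diagonal matrix
  let c' : ℕ → F := fun i => if h : i < C.κ + 2 then c ⟨i, h⟩ else 1
  have hc' : ∀ i (h : i < C.κ + 2), c' i = c ⟨i, h⟩ := fun i h => dif_pos h
  obtain ⟨Dd, hDl, hDs, hD0⟩ := exists_prefix c' (1 : F) (C.κ + 2)
  have hDne : ∀ i, i < C.κ + 2 → Dd i ≠ 0 := by
    apply hD0 _ one_ne_zero
    intro i hi
    rw [hc' i (by omega)]
    exact (hc ⟨i, by omega⟩).1
  have hDl' : Dd (C.κ + 1) = 1 := hDl
  have hcF := (hc ⟨C.κ + 1, by omega⟩).1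
  have hDκ := hDne C.κ (by omega)
  obtain ⟨d, hd, hdD⟩ := exists_diag_sim (n := N) (C.κ + 2) (by omega) Dd hDne
    (Units.mk0 (Dd C.κ * (c ⟨C.κ + 1, by omega⟩)⁻¹) (mul_ne_zero hDκ (inv_ne_zero hcF)))
  have e1 : (d (ix N (C.κ + 1) (by omega)).rev : F) = Dd C.κ * (c ⟨C.κ + 1, by omega⟩)⁻¹ := by
    have := hd (ix N (C.κ + 1) (by omega))
    rw [hdD (C.κ + 1) (by omega), hDl', one_mul, RingHom.id_apply] at this
    exact this
  refine ⟨ψ, d, _, hd, ?_, ?_, ?_, ?_⟩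
  · intro i hi t
    have hi' : i ≤ C.κ := by omega
    obtain ⟨-, hX', -, -⟩ := hc ⟨i, by omega⟩
    have := hX' t
    rw [C.RR_le _ hi', RS_X, RS_X] at this
    rw [this]
    congr 1
    apply Subtype.ext
    rw [PhiSR_coe, sN_coe, sN_coe]
    apply gl_injective
    rw [gl_PhiS, gl_sO, gl_sO, conjS_map_short_up ψ (idComm ψ) d _ hd]
    congr 2
    rw [Units.val_inv_eq_inv_val, hdD i (by omega), hdD (i + 1) (by omega), hDs i (by omega),
      hc' i (by omega)]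
    have := hDne (i + 1) (by omega)
    field_simp
  · intro i hi t
    have hi' : i ≤ C.κ := by omega
    obtain ⟨hci, -, hY', -⟩ := hc ⟨i, by omega⟩
    have := hY' t
    rw [C.RR_le _ hi', RS_Y, RS_Y] at this
    rw [this]
    congr 1
    apply Subtype.ext
    rw [PhiSR_coe, sN_coe, sN_coe]
    apply gl_injective
    rw [gl_PhiS, gl_sO, gl_sO, conjS_map_short_lo ψ (idComm ψ) d _ hd]
    congr 2
    rw [Units.val_inv_eq_inv_val, hdD i (by omega), hdD (i + 1) (by omega), hDs i (by omega),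
      hc' i (by omega)]
    have := hDne (i + 1) (by omega)
    field_simp
  · intro t
    obtain ⟨-, hX', -, -⟩ := hc ⟨C.κ + 1, by omega⟩
    have := hX' t
    rw [C.RR_fork _ (by simp), RF_X, RF_X] at this
    rw [this]
    congr 1
    apply Subtype.ext
    rw [PhiSR_coe, fN_coe, fN_coe]
    apply gl_injective
    rw [gl_PhiS, gl_fO, gl_fO, conjS_map_short_up ψ (idComm ψ) d _ hd]
    congr 2
    rw [Units.val_inv_eq_inv_val, hdD C.κ (by omega), e1]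
    field_simp
  · intro t
    obtain ⟨-, -, hY', -⟩ := hc ⟨C.κ + 1, by omega⟩
    have := hY' t
    rw [C.RR_fork _ (by simp), RF_Y, RF_Y] at this
    rw [this]
    congr 1
    apply Subtype.ext
    rw [PhiSR_coe, fN_coe, fN_coe]
    apply gl_injective
    rw [gl_PhiS, gl_fO, gl_fO, conjS_map_short_lo ψ (idComm ψ) d _ hd]
    congr 2
    rw [Units.val_inv_eq_inv_val, hdD C.κ (by omega), e1]
    field_simp

/-- **The model theorem for `Ω⁺_{2κ+4}`.** An automorphism of the central quotient preserving the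
fundamental root groups (elementwise form) is a standard automorphism `g ↦ d ψ(g) d⁻¹` with `d` a
diagonal similitude, provided the root groups generate. -/
theorem model_aut [Finite F] (hκ : 1 ≤ C.κ) (hPhi : C.PhiSInv) (th : Q ≃* Q)
    (hX : ∀ i (hi : 2 * i + 4 ≤ N) u, ∃ v,
      th (C.f (C.sN i hi (upT u))) = C.f (C.sN i hi (upT v)))
    (hY : ∀ i (hi : 2 * i + 4 ≤ N) u, ∃ v,
      th (C.f (C.sN i hi (loT u))) = C.f (C.sN i hi (loT v)))
    (hXF : ∀ u, ∃ v, th (C.f (C.fN (upT u))) = C.f (C.fN (upT v)))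
    (hYF : ∀ u, ∃ v, th (C.f (C.fN (loT u))) = C.f (C.fN (loT v)))
    (hgen : ∀ H : Subgroup ↥C.G0,
      (∀ i (hi : 2 * i + 4 ≤ N) t, C.sN i hi (upT t) ∈ H ∧ C.sN i hi (loT t) ∈ H) →
      (∀ t, C.fN (upT t) ∈ H ∧ C.fN (loT t) ∈ H) → H = ⊤) :
    ∃ (ψ : F ≃+* F) (d : Fin N → Fˣ) (μ : Fˣ)
      (hd : ∀ i, (d i : F) * (RingHom.id F) (d i.rev) = μ),
      ∀ g : ↥C.G0, th (C.f g) = C.f (C.PhiSR hPhi ψ d μ hd g) := by
  obtain ⟨ψ, d, μ, hd, h1, h2, h3, h4⟩ := C.D_main hκ hPhi th hX hY hXF hYF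
  refine ⟨ψ, d, μ, hd, ?_⟩
  have hE := hgen ((th.toMonoidHom.comp C.f).eqLocus (C.f.comp (C.PhiSR hPhi ψ d μ hd)))
    (fun i hi t => ⟨h1 i hi t, h2 i hi t⟩) (fun t => ⟨h3 t, h4 t⟩)
  intro g
  have : g ∈ (th.toMonoidHom.comp C.f).eqLocus (C.f.comp (C.PhiSR hPhi ψ d μ hd)) := by
    rw [hE]
    trivial
  exact this

end DCtx

end Cfsg.Agent.AutPO
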