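import Cfsg.Agent.Lib.Lead.AutPO.MNodes
import Cfsg.Agent.Lib.Lead.AutPO.DMain
import Mathlib

/-!
# `Ω⁻_{2κ+4}`: an automorphism preserving the fundamental root groups is a standard automorphism (lead)

The model of the orthogonal group of minus type inside the model of type `D_{κ+2}` over the quadratic
extension `K` of `F`: chain nodes `sO j` (`j < κ`) over `F` and the twisted node `tO` over `K`.
`MCtx` : a subgroup `G0` of `N1 N K id` containing the images of the node homomorphisms, with a central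
quotient `f : G0 → Q`; `MCtx.M_main`, `MCtx.model_aut`.
-/

set_option autoImplicit false

namespace Cfsg.Agent.AutPO

open Matrix Cfsg Cfsg.Agent.Lib.Helper5.GLBN Cfsg.Agent.Lib.Helper8.SpBN
  Cfsg.Agent.Lib.Helper8.Tw Cfsg.Agent.Lib.Helper8.AutSp Cfsg.Agent.PSUT Cfsg.Agent.AutPSU
  Cfsg.Agent.TwRankOne Cfsg.Agent.TwRankOne.Shape
open scoped MatrixGroups

variable {N : ℕ} {F K : Type*} [Field F] [Field K]

/-- a central quotient of a subgroup `G0` of `SO_N(K)` (`N = 2 κ + 4`, antidiagonal form) containing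
the images of the node homomorphisms of type `²D`: the chain nodes over `F` and the twisted node -/
structure MCtx (N : ℕ) (F K : Type*) [Field F] [Field K] (Q : Type*) [Group Q] where
  κ : ℕ
  hN : N = 2 * κ + 4
  ι : F →+* K
  cj : K →+* K
  hι : ∀ a, cj (ι a) = ι a
  hcomm : ∀ (ψ : K ≃+* K) (x : K), ψ (cj x) = cj (ψ x)
  G0 : Subgroup ↥(N1 N K (RingHom.id K))
  f : ↥G0 →* Q
  hf : Function.Surjective f
  hker : f.ker = Subgroup.center ↥G0
  hZ : ∀ g : ↥G0, g ∈ Subgroup.center ↥G0 → ∃ c : K,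
    ((gl g.1 : GL (Fin N) K) : Matrix (Fin N) (Fin N) K) = Matrix.diagonal fun _ => c
  hS : ∀ (j : ℕ) (hj : j < κ) (x : Matrix.SpecialLinearGroup (Fin 2) F),
    sO j (by omega) (Matrix.SpecialLinearGroup.map ι x) ∈ G0
  hT : ∀ x : Matrix.SpecialLinearGroup (Fin 2) K, tO κ hN cj x ∈ G0

namespace MCtx

variable {Q : Type*} [Group Q] (C : MCtx N F K Q)

/-- the chain node homomorphisms, into `G0` -/
noncomputable def sN (j : ℕ) (hj : j < C.κ) :
    Matrix.SpecialLinearGroup (Fin 2) F →* ↥C.G0 :=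
  ((sO j (by have := C.hN; omega)).comp (Matrix.SpecialLinearGroup.map C.ι)).codRestrict C.G0
    (C.hS j hj)

/-- the twisted node homomorphism, into `G0` -/
noncomputable def tN : Matrix.SpecialLinearGroup (Fin 2) K →* ↥C.G0 :=
  (tO C.κ C.hN C.cj).codRestrict C.G0 C.hT

theorem sN_coe (j : ℕ) (hj : j < C.κ) (x : Matrix.SpecialLinearGroup (Fin 2) F) :
    ((C.sN j hj x : ↥C.G0) : ↥(N1 N K (RingHom.id K)))
      = sO j (by have := C.hN; omega) (Matrix.SpecialLinearGroup.map C.ι x) := rfl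

theorem tN_coe (x : Matrix.SpecialLinearGroup (Fin 2) K) :
    ((C.tN x : ↥C.G0) : ↥(N1 N K (RingHom.id K))) = tO C.κ C.hN C.cj x := rfl

theorem f_eq_one {g : ↥C.G0} (h : C.f g = 1) : ∃ c : K,
    ((gl g.1 : GL (Fin N) K) : Matrix (Fin N) (Fin N) K) = Matrix.diagonal fun _ => c := by
  apply C.hZ
  rw [← C.hker]
  exact h

theorem sN_ker (j : ℕ) (hj : j < C.κ) (g : Matrix.SpecialLinearGroup (Fin 2) F)
    (h : (C.f.comp (C.sN j hj)) g = 1) : g = 1 ∨ g = -1 := by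
  obtain ⟨c, hc⟩ := C.f_eq_one h
  have h1 := shortGL_scalar (RingHom.id K) (quad j (by have := C.hN; omega))
    (Matrix.SpecialLinearGroup.map C.ι g) c hc
  rcases h1 with h1 | h1
  · left
    apply map_sl2_injective C.ι
    rw [h1, map_one]
  · right
    apply map_sl2_injective C.ι
    rw [h1]
    apply Subtype.ext
    ext i j
    fin_cases i <;> fin_cases j <;>
      simp [Matrix.SpecialLinearGroup.coe_neg, Matrix.SpecialLinearGroup.map_apply_coe,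
        RingHom.mapMatrix_apply]

theorem tN_ker (g : Matrix.SpecialLinearGroup (Fin 2) K)
    (h : (C.f.comp C.tN) g = 1) : g = 1 ∨ g = -1 := by
  obtain ⟨c, hc⟩ := C.f_eq_one h
  exact tO_scalar C.κ C.hN C.cj g c hc

/-- the rank one family of the chain node `j`, over `F` -/
noncomputable def RS (j : ℕ) (hj : j < C.κ) : RFam F Q :=
  RFam.ofSL2 (C.f.comp (C.sN j hj)) (C.sN_ker j hj)

/-- the rank one family of the twisted node, over `K` -/
noncomputable def RT : RFam K Q :=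
  RFam.ofSL2 (C.f.comp C.tN) C.tN_ker

theorem RS_X (j : ℕ) (hj : j < C.κ) (t : F) : (C.RS j hj).X t = C.f (C.sN j hj (upT t)) := rfl
theorem RS_Y (j : ℕ) (hj : j < C.κ) (t : F) : (C.RS j hj).Y t = C.f (C.sN j hj (loT t)) := rfl
theorem RT_X (t : K) : C.RT.X t = C.f (C.tN (upT t)) := rfl
theorem RT_Y (t : K) : C.RT.Y t = C.f (C.tN (loT t)) := rfl

theorem RS_h (j : ℕ) (hj : j < C.κ) (a : F) (ha : a ≠ 0) :
    (C.RS j hj).h a = C.f (C.sN j hj (dgT a ha)) :=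
  RFam.ofSL2_h _ _ a ha

/-- consecutive chain nodes are linked -/
theorem link_short (j : ℕ) (hj : j + 1 < C.κ) (a : F) (ha : a ≠ 0) :
    Acts (C.RS (j + 1) hj).X ((C.RS j (by omega)).h a) a⁻¹ := by
  intro u
  rw [RS_h _ _ _ _ ha, RS_X, RS_X, ← map_mul, ← map_mul]
  congr 1
  apply Subtype.ext
  rw [Subgroup.coe_mul, Subgroup.coe_mul, sN_coe, sN_coe, sN_coe, map_dgT, map_upT, map_upT,
    map_mul, map_inv₀]
  have hN := C.hN
  exact sO_link j (by omega) (C.ι a) ((map_ne_zero C.ι).2 ha) (C.ι u)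

/-- the twisted node is linked to the chain node `κ - 1` -/
theorem link_tw (j : ℕ) (hκ : C.κ = j + 1) (a : F) (ha : a ≠ 0) :
    Acts C.RT.X ((C.RS j (by omega)).h a) (C.ι a)⁻¹ := by
  intro u
  rw [RS_h _ _ _ _ ha, RT_X, RT_X, ← map_mul, ← map_mul]
  congr 1
  apply Subtype.ext
  rw [Subgroup.coe_mul, Subgroup.coe_mul, sN_coe, tN_coe, tN_coe, map_dgT]
  have hN' : N = 2 * (j + 1) + 4 := by have := C.hN; omega
  have key := sO_link_tO j hN' C.cj (C.ι a) ((map_ne_zero C.ι).2 ha) (C.hι a) u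
  convert key using 3 <;> simp [hκ]

/-- the compatibility of a standard automorphism `g ↦ d ψ(g) d⁻¹` with the twisted structure -/
def Compat (ψ : K ≃+* K) (d : Fin N → Kˣ) : Prop :=
  (∀ a : F, ∃ b : F, ψ (C.ι a) = C.ι b) ∧
  (∀ (i : ℕ) (hi : i ≤ C.κ), ∃ b : F,
    (d (ix N i (by have := C.hN; omega)) : K) = C.ι b) ∧
  (d (ix N (C.κ + 1) (by have := C.hN; omega)).rev : K)
    = C.cj (d (ix N (C.κ + 1) (by have := C.hN; omega)))

/-- invariance of `G0` under the compatible standard automorphisms -/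
def PhiSInv : Prop :=
  ∀ (ψ : K ≃+* K) (d : Fin N → Kˣ) (μ : Kˣ)
    (hd : ∀ i, (d i : K) * (RingHom.id K) (d i.rev) = μ), C.Compat ψ d →
    ∀ g : ↥(N1 N K (RingHom.id K)), g ∈ C.G0 → PhiS ψ (idComm ψ) d μ hd g ∈ C.G0

/-- the restriction of a compatible standard automorphism to `G0` -/
noncomputable def PhiSR (hPhi : C.PhiSInv) (ψ : K ≃+* K) (d : Fin N → Kˣ) (μ : Kˣ)
    (hd : ∀ i, (d i : K) * (RingHom.id K) (d i.rev) = μ) (hc : C.Compat ψ d) :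
    ↥C.G0 →* ↥C.G0 where
  toFun g := ⟨PhiS ψ (idComm ψ) d μ hd g.1, hPhi ψ d μ hd hc g.1 g.2⟩
  map_one' := Subtype.ext (map_one _)
  map_mul' a b := Subtype.ext (map_mul _ _ _)

theorem PhiSR_coe (hPhi : C.PhiSInv) (ψ : K ≃+* K) (d : Fin N → Kˣ) (μ : Kˣ)
    (hd : ∀ i, (d i : K) * (RingHom.id K) (d i.rev) = μ) (hc : C.Compat ψ d) (g : ↥C.G0) :
    ((C.PhiSR hPhi ψ d μ hd hc g : ↥C.G0) : ↥(N1 N K (RingHom.id K)))
      = PhiS ψ (idComm ψ) d μ hd g.1 := rfl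

/-- the image of a chain root element under a compatible standard automorphism -/
theorem PhiS_sO_upT (ψ : K ≃+* K) (d : Fin N → Kˣ) (μ : Kˣ)
    (hd : ∀ i, (d i : K) * (RingHom.id K) (d i.rev) = μ) (j : ℕ) (hj : 2 * j + 4 ≤ N) (t : K) :
    PhiS ψ (idComm ψ) d μ hd (sO j hj (upT t))
      = sO j hj (upT ((d (ix N j (by omega)) : K) * ψ t
          * ((d (ix N (j + 1) (by omega)))⁻¹ : Kˣ))) := by
  apply gl_injective
  rw [gl_PhiS, gl_sO, gl_sO, conjS_map_short_up ψ (idComm ψ) d _ hd]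

theorem PhiS_sO_loT (ψ : K ≃+* K) (d : Fin N → Kˣ) (μ : Kˣ)
    (hd : ∀ i, (d i : K) * (RingHom.id K) (d i.rev) = μ) (j : ℕ) (hj : 2 * j + 4 ≤ N) (t : K) :
    PhiS ψ (idComm ψ) d μ hd (sO j hj (loT t))
      = sO j hj (loT ((d (ix N (j + 1) (by omega)) : K) * ψ t
          * ((d (ix N j (by omega)))⁻¹ : Kˣ))) := by
  apply gl_injective
  rw [gl_PhiS, gl_sO, gl_sO, conjS_map_short_lo ψ (idComm ψ) d _ hd]

theorem PhiS_fO_upT (ψ : K ≃+* K) (d : Fin N → Kˣ) (μ : Kˣ)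
    (hd : ∀ i, (d i : K) * (RingHom.id K) (d i.rev) = μ) (κ : ℕ) (hN : N = 2 * κ + 4) (t : K) :
    PhiS ψ (idComm ψ) d μ hd (fO κ hN (upT t))
      = fO κ hN (upT ((d (ix N κ (by omega)) : K) * ψ t
          * ((d (ix N (κ + 1) (by omega)).rev)⁻¹ : Kˣ))) := by
  apply gl_injective
  rw [gl_PhiS, gl_fO, gl_fO, conjS_map_short_up ψ (idComm ψ) d _ hd]

theorem PhiS_fO_loT (ψ : K ≃+* K) (d : Fin N → Kˣ) (μ : Kˣ)
    (hd : ∀ i, (d i : K) * (RingHom.id K) (d i.rev) = μ) (κ : ℕ) (hN : N = 2 * κ + 4) (t : K) :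
    PhiS ψ (idComm ψ) d μ hd (fO κ hN (loT t))
      = fO κ hN (loT ((d (ix N (κ + 1) (by omega)).rev : K) * ψ t
          * ((d (ix N κ (by omega)))⁻¹ : Kˣ))) := by
  apply gl_injective
  rw [gl_PhiS, gl_fO, gl_fO, conjS_map_short_lo ψ (idComm ψ) d _ hd]

theorem PhiS_tO_upT (ψ : K ≃+* K) (d : Fin N → Kˣ) (μ : Kˣ)
    (hd : ∀ i, (d i : K) * (RingHom.id K) (d i.rev) = μ) (κ : ℕ) (hN : N = 2 * κ + 4)
    (cj : K →+* K) (t : K) :
    PhiS ψ (idComm ψ) d μ hd (tO κ hN cj (upT t))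
      = sO κ (by omega) (upT ((d (ix N κ (by omega)) : K) * ψ t
          * ((d (ix N (κ + 1) (by omega)))⁻¹ : Kˣ)))
        * fO κ hN (upT ((d (ix N κ (by omega)) : K) * ψ (cj t)
          * ((d (ix N (κ + 1) (by omega)).rev)⁻¹ : Kˣ))) := by
  rw [tO_upT]
  refine (map_mul (PhiS ψ (idComm ψ) d μ hd) _ _).trans ?_
  rw [PhiS_sO_upT, PhiS_fO_upT]

theorem PhiS_tO_loT (ψ : K ≃+* K) (d : Fin N → Kˣ) (μ : Kˣ)
    (hd : ∀ i, (d i : K) * (RingHom.id K) (d i.rev) = μ) (κ : ℕ) (hN : N = 2 * κ + 4)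
    (cj : K →+* K) (t : K) :
    PhiS ψ (idComm ψ) d μ hd (tO κ hN cj (loT t))
      = sO κ (by omega) (loT ((d (ix N (κ + 1) (by omega)) : K) * ψ t
          * ((d (ix N κ (by omega)))⁻¹ : Kˣ)))
        * fO κ hN (loT ((d (ix N (κ + 1) (by omega)).rev : K) * ψ (cj t)
          * ((d (ix N κ (by omega)))⁻¹ : Kˣ))) := by
  rw [tO_loT]
  refine (map_mul (PhiS ψ (idComm ψ) d μ hd) _ _).trans ?_
  rw [PhiS_sO_loT, PhiS_fO_loT]

/-- a standard automorphism on the upper elements of the twisted node -/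
theorem PhiS_tO_upT' (ψ : K ≃+* K) (d : Fin N → Kˣ) (μ : Kˣ)
    (hd : ∀ i, (d i : K) * (RingHom.id K) (d i.rev) = μ) (κ : ℕ) (hN : N = 2 * κ + 4)
    (cj : K →+* K) (hcomm : ∀ x, ψ (cj x) = cj (ψ x)) (a : K) (ha : a ≠ 0)
    (h0 : (d (ix N κ (by omega)) : K) = 1) (h1 : (d (ix N (κ + 1) (by omega)) : K) = a⁻¹)
    (h2 : (d (ix N (κ + 1) (by omega)).rev : K) = cj a⁻¹) (t : K) :
    PhiS ψ (idComm ψ) d μ hd (tO κ hN cj (upT t)) = tO κ hN cj (upT (a * ψ t)) := by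
  rw [PhiS_tO_upT ψ d μ hd κ hN cj t, tO_upT κ hN cj (a * ψ t)]
  have e1 : (d (ix N κ (by omega)) : K) * ψ t * ((d (ix N (κ + 1) (by omega)))⁻¹ : Kˣ)
      = a * ψ t := by
    rw [Units.val_inv_eq_inv_val, h0, h1]
    field_simp
  have e2 : (d (ix N κ (by omega)) : K) * ψ (cj t)
      * ((d (ix N (κ + 1) (by omega)).rev)⁻¹ : Kˣ) = cj (a * ψ t) := by
    rw [Units.val_inv_eq_inv_val, h0, h2, hcomm]
    simp only [map_mul, map_inv₀]
    have := (map_ne_zero cj).2 ha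
    field_simp
  rw [e1, e2]

/-- a standard automorphism on the lower elements of the twisted node -/
theorem PhiS_tO_loT' (ψ : K ≃+* K) (d : Fin N → Kˣ) (μ : Kˣ)
    (hd : ∀ i, (d i : K) * (RingHom.id K) (d i.rev) = μ) (κ : ℕ) (hN : N = 2 * κ + 4)
    (cj : K →+* K) (hcomm : ∀ x, ψ (cj x) = cj (ψ x)) (a : K)
    (h0 : (d (ix N κ (by omega)) : K) = 1) (h1 : (d (ix N (κ + 1) (by omega)) : K) = a⁻¹)
    (h2 : (d (ix N (κ + 1) (by omega)).rev : K) = cj a⁻¹) (t : K) :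
    PhiS ψ (idComm ψ) d μ hd (tO κ hN cj (loT t)) = tO κ hN cj (loT (a⁻¹ * ψ t)) := by
  rw [PhiS_tO_loT ψ d μ hd κ hN cj t, tO_loT κ hN cj (a⁻¹ * ψ t)]
  have e1 : (d (ix N (κ + 1) (by omega)) : K) * ψ t * ((d (ix N κ (by omega)))⁻¹ : Kˣ)
      = a⁻¹ * ψ t := by
    rw [Units.val_inv_eq_inv_val, h0, h1]
    field_simp
  have e2 : (d (ix N (κ + 1) (by omega)).rev : K) * ψ (cj t)
      * ((d (ix N κ (by omega)))⁻¹ : Kˣ) = cj (a⁻¹ * ψ t) := by
    rw [Units.val_inv_eq_inv_val, h0, h2, hcomm]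
    simp only [map_mul, map_inv₀]
    field_simp
  rw [e1, e2]

/-- a standard automorphism on the upper elements of a chain node over the small field -/
theorem PhiS_sO_upT' (ι : F →+* K) (ψ : K ≃+* K) (ψ₀ : F ≃+* F) (hlink : ∀ a, ψ (ι a) = ι (ψ₀ a))
    (d : Fin N → Kˣ) (μ : Kˣ)
    (hd : ∀ i, (d i : K) * (RingHom.id K) (d i.rev) = μ) (j : ℕ) (hj : 2 * j + 4 ≤ N)
    (D0 D1 c : F) (hD1 : D1 ≠ 0) (hD : D0 = c * D1)
    (h0 : (d (ix N j (by omega)) : K) = ι D0) (h1 : (d (ix N (j + 1) (by omega)) : K) = ι D1)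
    (t : F) :
    PhiS ψ (idComm ψ) d μ hd (sO j hj (Matrix.SpecialLinearGroup.map ι (upT t)))
      = sO j hj (Matrix.SpecialLinearGroup.map ι (upT (c * ψ₀ t))) := by
  rw [map_upT, map_upT, PhiS_sO_upT]
  have e : (d (ix N j (by omega)) : K) * ψ (ι t) * ((d (ix N (j + 1) (by omega)))⁻¹ : Kˣ)
      = ι (c * ψ₀ t) := by
    rw [Units.val_inv_eq_inv_val, h0, h1, hD, hlink, map_mul, map_mul]
    have := (map_ne_zero ι).2 hD1
    field_simp
  rw [e]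

/-- a standard automorphism on the lower elements of a chain node over the small field -/
theorem PhiS_sO_loT' (ι : F →+* K) (ψ : K ≃+* K) (ψ₀ : F ≃+* F) (hlink : ∀ a, ψ (ι a) = ι (ψ₀ a))
    (d : Fin N → Kˣ) (μ : Kˣ)
    (hd : ∀ i, (d i : K) * (RingHom.id K) (d i.rev) = μ) (j : ℕ) (hj : 2 * j + 4 ≤ N)
    (D0 D1 c : F) (hD1 : D1 ≠ 0) (hc : c ≠ 0) (hD : D0 = c * D1)
    (h0 : (d (ix N j (by omega)) : K) = ι D0) (h1 : (d (ix N (j + 1) (by omega)) : K) = ι D1)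
    (t : F) :
    PhiS ψ (idComm ψ) d μ hd (sO j hj (Matrix.SpecialLinearGroup.map ι (loT t)))
      = sO j hj (Matrix.SpecialLinearGroup.map ι (loT (c⁻¹ * ψ₀ t))) := by
  rw [map_loT, map_loT, PhiS_sO_loT]
  have e : (d (ix N (j + 1) (by omega)) : K) * ψ (ι t) * ((d (ix N j (by omega)))⁻¹ : Kˣ)
      = ι (c⁻¹ * ψ₀ t) := by
    rw [Units.val_inv_eq_inv_val, h0, h1, hD, hlink, map_mul, map_mul, map_inv₀]
    have h3 := (map_ne_zero ι).2 hD1
    have h4 := (map_ne_zero ι).2 hc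
    field_simp
  rw [e]

set_option maxHeartbeats 1000000 in
theorem M_main [Finite F] [Finite K] (hκ : 1 ≤ C.κ) (hPhi : C.PhiSInv) (th : Q ≃* Q)
    (hX : ∀ i (hi : i < C.κ) u, ∃ v,
      th (C.f (C.sN i hi (upT u))) = C.f (C.sN i hi (upT v)))
    (hY : ∀ i (hi : i < C.κ) u, ∃ v,
      th (C.f (C.sN i hi (loT u))) = C.f (C.sN i hi (loT v)))
    (hXT : ∀ u, ∃ v, th (C.f (C.tN (upT u))) = C.f (C.tN (upT v)))
    (hYT : ∀ u, ∃ v, th (C.f (C.tN (loT u))) = C.f (C.tN (loT v))) :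
    ∃ (ψ : K ≃+* K) (d : Fin N → Kˣ) (μ : Kˣ)
      (hd : ∀ i, (d i : K) * (RingHom.id K) (d i.rev) = μ) (hc : C.Compat ψ d),
      (∀ i (hi : i < C.κ) t, th (C.f (C.sN i hi (upT t)))
        = C.f (C.PhiSR hPhi ψ d μ hd hc (C.sN i hi (upT t)))) ∧
      (∀ i (hi : i < C.κ) t, th (C.f (C.sN i hi (loT t)))
        = C.f (C.PhiSR hPhi ψ d μ hd hc (C.sN i hi (loT t)))) ∧
      (∀ t, th (C.f (C.tN (upT t))) = C.f (C.PhiSR hPhi ψ d μ hd hc (C.tN (upT t)))) ∧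
      (∀ t, th (C.f (C.tN (loT t))) = C.f (C.PhiSR hPhi ψ d μ hd hc (C.tN (loT t)))) := by
  classical
  have hN := C.hN
  -- the chain of nodes over `F`
  let R : Fin C.κ → RFam F Q := fun i => C.RS i.1 i.2
  obtain ⟨ψ₀, c, hc⟩ := chain_shape R th
    (fun i h a ha => C.link_short i.1 h a ha)
    (fun i u => hX i.1 i.2 u) (fun i u => hY i.1 i.2 u) (by omega)
  -- the twisted node
  choose φT hφT using hXT
  choose γT hγT using hYT
  obtain ⟨ψ, hT1, hTψ, hTγ, -⟩ := C.RT.shape th hφT hγT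
  -- the link
  obtain ⟨hcl, hclX, -, hcltor⟩ := hc ⟨C.κ - 1, by omega⟩
  have hlink : ∀ a : F, ψ (C.ι a) = C.ι (ψ₀ a) := by
    intro a
    refine RFam.link (R ⟨C.κ - 1, by omega⟩) C.RT C.ι
      (fun a ha => C.link_tw (C.κ - 1) (by omega) a ha) th
      (φ := fun u => c ⟨C.κ - 1, by omega⟩ * ψ₀ u) hφT ψ₀ ψ ?_ ?_ hT1 hTψ ?_ a
    · show c ⟨C.κ - 1, by omega⟩ * ψ₀ 1 ≠ 0
      rw [map_one, mul_one]
      exact hcl
    · intro t
      show c ⟨C.κ - 1, by omega⟩ * ψ₀ t = c ⟨C.κ - 1, by omega⟩ * ψ₀ 1 * ψ₀ t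
      rw [map_one, mul_one]
    · intro a ha
      show th ((R ⟨C.κ - 1, by omega⟩).h a)
        = (R ⟨C.κ - 1, by omega⟩).h (c ⟨C.κ - 1, by omega⟩ * ψ₀ a)
          * ((R ⟨C.κ - 1, by omega⟩).h (c ⟨C.κ - 1, by omega⟩ * ψ₀ 1))⁻¹
      rw [map_one, mul_one]
      exact hcltor a ha
  -- the diagonal matrix
  let c' : ℕ → F := fun i => if h : i < C.κ then c ⟨i, h⟩ else 1
  have hc' : ∀ i (h : i < C.κ), c' i = c ⟨i, h⟩ := fun i h => dif_pos h
  obtain ⟨Dd, hDl, hDs, hD0⟩ := exists_prefix c' (1 : F) (C.κ + 1)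
  have hDne : ∀ i, i < C.κ + 1 → Dd i ≠ 0 := by
    apply hD0 _ one_ne_zero
    intro i hi
    rw [hc' i (by omega)]
    exact (hc ⟨i, by omega⟩).1
  have hDl' : Dd C.κ = 1 := hDl
  set s : K := (φT 1)⁻¹ with hs
  have hs0 : s ≠ 0 := inv_ne_zero hT1
  have hcs0 : C.cj s ≠ 0 := (map_ne_zero C.cj).2 hs0
  let DK : ℕ → K := fun i => if i ≤ C.κ then C.ι (Dd i) else s
  have hDK : ∀ i, i ≤ C.κ → DK i = C.ι (Dd i) := fun i h => if_pos h
  have hDKs : DK (C.κ + 1) = s := if_neg (by omega)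
  have hDKne : ∀ i, i < C.κ + 2 → DK i ≠ 0 := by
    intro i hi
    by_cases h : i ≤ C.κ
    · rw [hDK i h]
      exact (map_ne_zero C.ι).2 (hDne i (by omega))
    · have : i = C.κ + 1 := by omega
      rw [this, hDKs]
      exact hs0
  obtain ⟨d, hd, hdD⟩ := exists_diag_sim (n := N) (C.κ + 2) (by omega) DK hDKne
    (Units.mk0 (s * C.cj s) (mul_ne_zero hs0 hcs0))
  have hdi : ∀ i (h : i ≤ C.κ), (d (ix N i (by omega)) : K) = C.ι (Dd i) := by
    intro i h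
    rw [hdD i (by omega), hDK i h]
  have hds : (d (ix N (C.κ + 1) (by omega)) : K) = s := by
    rw [hdD (C.κ + 1) (by omega), hDKs]
  have hdsr : (d (ix N (C.κ + 1) (by omega)).rev : K) = C.cj s := by
    have := hd (ix N (C.κ + 1) (by omega))
    rw [hds, RingHom.id_apply, Units.val_mk0] at this
    exact mul_left_cancel₀ hs0 this
  have hdκ : (d (ix N C.κ (by omega)) : K) = 1 := by
    rw [hdi C.κ le_rfl, hDl', map_one]
  have hcomp : C.Compat ψ d := by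
    refine ⟨fun a => ⟨ψ₀ a, hlink a⟩, fun i hi => ⟨Dd i, hdi i hi⟩, ?_⟩
    rw [hdsr, hds]
  have hsinv : s = (φT 1)⁻¹ := hs
  refine ⟨ψ, d, _, hd, hcomp, ?_, ?_, ?_, ?_⟩
  · intro i hi t
    obtain ⟨-, hX', -, -⟩ := hc ⟨i, hi⟩
    have := hX' t
    rw [show R ⟨i, hi⟩ = C.RS i hi from rfl, RS_X, RS_X] at this
    rw [this]
    congr 1
    apply Subtype.ext
    rw [PhiSR_coe, sN_coe, sN_coe]
    exact (PhiS_sO_upT' C.ι ψ ψ₀ hlink d _ hd i (by omega) (Dd i) (Dd (i + 1)) (c ⟨i, hi⟩)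
      (hDne (i + 1) (by omega)) (by rw [hDs i (by omega), hc' i hi]) (hdi i (by omega))
      (hdi (i + 1) (by omega)) t).symm
  · intro i hi t
    obtain ⟨hci, -, hY', -⟩ := hc ⟨i, hi⟩
    have := hY' t
    rw [show R ⟨i, hi⟩ = C.RS i hi from rfl, RS_Y, RS_Y] at this
    rw [this]
    congr 1
    apply Subtype.ext
    rw [PhiSR_coe, sN_coe, sN_coe]
    exact (PhiS_sO_loT' C.ι ψ ψ₀ hlink d _ hd i (by omega) (Dd i) (Dd (i + 1)) (c ⟨i, hi⟩)
      (hDne (i + 1) (by omega)) hci (by rw [hDs i (by omega), hc' i hi]) (hdi i (by omega))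
      (hdi (i + 1) (by omega)) t).symm
  · intro t
    rw [hφT t, hTψ t]
    congr 1
    apply Subtype.ext
    rw [PhiSR_coe, tN_coe, tN_coe]
    exact (PhiS_tO_upT' ψ d _ hd C.κ C.hN C.cj (C.hcomm ψ) (φT 1) hT1 hdκ
      (by rw [hds, hsinv]) (by rw [hdsr, hsinv]) t).symm
  · intro t
    rw [hγT t, hTγ t]
    congr 1
    apply Subtype.ext
    rw [PhiSR_coe, tN_coe, tN_coe]
    exact (PhiS_tO_loT' ψ d _ hd C.κ C.hN C.cj (C.hcomm ψ) (φT 1) hdκ
      (by rw [hds, hsinv]) (by rw [hdsr, hsinv]) t).symm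

/-- **The model theorem for `Ω⁻_{2κ+4}`.** An automorphism of the central quotient preserving the
fundamental root groups (elementwise form) is a standard automorphism `g ↦ d ψ(g) d⁻¹` with `d` a
compatible diagonal similitude, provided the root groups generate. -/
theorem model_aut [Finite F] [Finite K] (hκ : 1 ≤ C.κ) (hPhi : C.PhiSInv) (th : Q ≃* Q)
    (hX : ∀ i (hi : i < C.κ) u, ∃ v,
      th (C.f (C.sN i hi (upT u))) = C.f (C.sN i hi (upT v)))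
    (hY : ∀ i (hi : i < C.κ) u, ∃ v,
      th (C.f (C.sN i hi (loT u))) = C.f (C.sN i hi (loT v)))
    (hXT : ∀ u, ∃ v, th (C.f (C.tN (upT u))) = C.f (C.tN (upT v)))
    (hYT : ∀ u, ∃ v, th (C.f (C.tN (loT u))) = C.f (C.tN (loT v)))
    (hgen : ∀ H : Subgroup ↥C.G0,
      (∀ i (hi : i < C.κ) t, C.sN i hi (upT t) ∈ H ∧ C.sN i hi (loT t) ∈ H) →
      (∀ t, C.tN (upT t) ∈ H ∧ C.tN (loT t) ∈ H) → H = ⊤) :
    ∃ (ψ : K ≃+* K) (d : Fin N → Kˣ) (μ : Kˣ)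
      (hd : ∀ i, (d i : K) * (RingHom.id K) (d i.rev) = μ) (hc : C.Compat ψ d),
      ∀ g : ↥C.G0, th (C.f g) = C.f (C.PhiSR hPhi ψ d μ hd hc g) := by
  obtain ⟨ψ, d, μ, hd, hc, h1, h2, h3, h4⟩ := C.M_main hκ hPhi th hX hY hXT hYT
  refine ⟨ψ, d, μ, hd, hc, ?_⟩
  have hE := hgen ((th.toMonoidHom.comp C.f).eqLocus (C.f.comp (C.PhiSR hPhi ψ d μ hd hc)))
    (fun i hi t => ⟨h1 i hi t, h2 i hi t⟩) (fun t => ⟨h3 t, h4 t⟩)
  intro g
  have : g ∈ (th.toMonoidHom.comp C.f).eqLocus (C.f.comp (C.PhiSR hPhi ψ d μ hd hc)) := by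
    rw [hE]
    trivial
  exact this

end MCtx

end Cfsg.Agent.AutPO
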