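import Cfsg.Agent.Lib.Helper8.AutDm.ModelD
import Cfsg.Agent.Lib.Helper5.AutDO.Comm2
import Cfsg.Agent.Lib.Lead.RootBN.PFac
import Mathlib

/-!
# `PΩ⁺_{2m}(F)`, `m ≥ 5`: every automorphism is induced by a semisimilarity (lead)

The assembly of helper8's `dm_aut_standard` (normal form + model theorem on helper5's model), helper5's
identification `eOm` of the model with the commutator subgroup of `OQ` and lead's `facD_of_model`.
-/

set_option autoImplicit false

namespace Cfsg.Agent.AutPO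

open Matrix Cfsg Cfsg.Agent.Lib.Helper5.GLBN Cfsg.Agent.Lib.Helper8.SpBN
open Cfsg.Agent.Lib.Helper8.Tw Cfsg.Agent.PSUT Cfsg.Agent.Lib.Helper5.AutSU
open Cfsg.Agent.Lib.Helper5.AutDO Cfsg.Agent.RootBN Cfsg.Agent.Lib.Helper8.AutSp
open Cfsg.Agent.Lib.Helper8.AutDm
open scoped MatrixGroups

variable {F : Type*} [Field F] [Fintype F]

set_option maxHeartbeats 1000000 in
/-- **Every automorphism of `PΩ⁺_{2m}(F)`, `m ≥ 5`, is induced by a semisimilarity.** -/
theorem FacD_core {m : ℕ} (hm : 5 ≤ m) (β : MulAut (POmega F (quadFormPlus m F))) :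
    ∃ (g : GL (Fin m ⊕ Fin m) F) (σ : F ≃+* F),
      IsSemisimilarityPair (quadFormPlus m F) g σ ∧
      IsInducedBySemilinearPOmega (quadFormPlus m F) g σ β := by
  classical
  obtain ⟨p, hp⟩ := CharP.exists F
  have := hp
  have : Fact p.Prime := ⟨CharP.char_is_prime F p⟩
  let C : DC (2 * m) := ⟨m - 2, by omega⟩
  have hκ3 : 3 ≤ C.κ := by
    show 3 ≤ m - 2
    omega
  have hκ1 : 1 ≤ C.κ := by omega
  let e : C.Dm F ≃* ↥(OmM m F) := C.eOm (F := F) (Cfsg.Agent.RootBN.even_two_mul m) hκ1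
  have he : ∀ g : C.Dm F, (((e g : ↥(OmM m F)) : ↥(OQ (2 * m) F (Cfsg.Agent.RootBN.even_two_mul m)))
      : GL (Fin (2 * m)) F) = C.gd g := fun g => rfl
  let f : C.Dm F →* POmega F (quadFormPlus m F) := (fOmP m F).comp e.toMonoidHom
  have hfe : ∀ g : C.Dm F, f g = fOmP m F (e g) := fun g => rfl
  have hf : Function.Surjective f := fOmP_surjective.comp e.surjective
  have hker : f.ker = Subgroup.center (C.Dm F) := by
    ext g
    rw [MonoidHom.mem_ker, hfe, ← MonoidHom.mem_ker, fOmP_ker, ← map_center_eq e]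
    constructor
    · rintro ⟨g', hg', h⟩
      have : g' = g := e.injective h
      rw [← this]
      exact hg'
    · intro hg
      exact ⟨g, hg, rfl⟩
  apply facD_of_model
  intro θ
  obtain ⟨x, γ, hγ, ψ, d, μ, hd, hθ⟩ := dm_aut_standard C hκ3 p f hf hker θ
  obtain ⟨x₀, hx₀⟩ := hf x
  have hsimd : ∀ y : Fin (2 * m) → F,
      qv (((dgU d : GL (Fin (2 * m)) F) : Matrix (Fin (2 * m)) (Fin (2 * m)) F) *ᵥ y)
        = (μ : F) * qv y := qv_dgU d μ (fun i => hd i)
  have hx₀q : ∀ y : Fin (2 * m) → F,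
      qv (((C.gd x₀ : GL (Fin (2 * m)) F) : Matrix (Fin (2 * m)) (Fin (2 * m)) F) *ᵥ y)
        = ((1 : Fˣ) : F) * qv y := by
    intro y
    rw [Units.val_one, one_mul]
    exact qv_of_mem_OQ (Cfsg.Agent.RootBN.even_two_mul m) (C.gl_mem_OQ (Cfsg.Agent.RootBN.even_two_mul m) x₀.2) y
  have hgl : ∀ g : C.Dm F, C.gd (PhiD C ψ d μ hd g)
      = dgU d * Matrix.GeneralLinearGroup.map (ψ : F →+* F) (C.gd g) * (dgU d)⁻¹ :=
    fun g => Cfsg.Agent.AutPO.gl_PhiS ψ (idComm ψ) d μ hd g.1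
  rcases hγ with rfl | rfl
  · refine ⟨C.gd x₀ * dgU d, ψ, 1 * μ, qv_mul_sim hx₀q hsimd, ?_⟩
    intro g
    refine ⟨e (x₀ * PhiD C ψ d μ hd (e.symm g) * x₀⁻¹), ?_, ?_⟩
    · rw [he, C.gd_mul, C.gd_mul, C.gd_inv, hgl, ← he (e.symm g), MulEquiv.apply_symm_apply]
      group
    · have h1 := hθ (e.symm g)
      rw [hfe, MulEquiv.apply_symm_apply] at h1
      have h2 : θ (fOmP m F g) = x * f (PhiD C ψ d μ hd (e.symm g)) * x⁻¹ := by
        rw [← h1]
        show _ = x * (MulAut.conj x⁻¹ (θ (fOmP m F g))) * x⁻¹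
        rw [MulAut.conj_apply]
        group
      rw [h2, ← hx₀, ← map_inv, ← map_mul, ← map_mul, hfe]
  · have hP : ∀ y : Fin (2 * m) → F,
        qv (((permGL C.tau : GL (Fin (2 * m)) F) : Matrix (Fin (2 * m)) (Fin (2 * m)) F) *ᵥ y)
          = ((1 : Fˣ) : F) * qv y := by
      intro y
      rw [Units.val_one, one_mul]
      exact qv_of_mem_OQ (Cfsg.Agent.RootBN.even_two_mul m) (C.rO (F := F) (Cfsg.Agent.RootBN.even_two_mul m)).2 y
    refine ⟨C.gd x₀ * permGL C.tau * dgU d, ψ, 1 * 1 * μ,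
      qv_mul_sim (qv_mul_sim hx₀q hP) hsimd, ?_⟩
    intro g
    refine ⟨e (x₀ * C.GamD (PhiD C ψ d μ hd (e.symm g)) * x₀⁻¹), ?_, ?_⟩
    · rw [he, C.gd_mul, C.gd_mul, C.gd_inv]
      have h3 : C.gd (C.GamD (PhiD C ψ d μ hd (e.symm g)))
          = permGL C.tau * C.gd (PhiD C ψ d μ hd (e.symm g)) * (permGL C.tau)⁻¹ :=
        C.gl_Gam _
      rw [h3, hgl, ← he (e.symm g), MulEquiv.apply_symm_apply]
      group
    · have h1 := hθ (e.symm g)
      rw [hfe, MulEquiv.apply_symm_apply] at h1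
      have h4 : descend f hf hker (C.GamD (F := F))
          (descend f hf hker (C.GamD (F := F)) (MulAut.conj x⁻¹ (θ (fOmP m F g))))
          = MulAut.conj x⁻¹ (θ (fOmP m F g)) := by
        obtain ⟨y, hy⟩ := hf (MulAut.conj x⁻¹ (θ (fOmP m F g)))
        rw [← hy, descend_apply, descend_apply, C.GamD_GamD]
      rw [h1, descend_apply] at h4
      have h2 : θ (fOmP m F g) = x * f (C.GamD (PhiD C ψ d μ hd (e.symm g))) * x⁻¹ := by
        rw [h4]
        show _ = x * (MulAut.conj x⁻¹ (θ (fOmP m F g))) * x⁻¹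
        rw [MulAut.conj_apply]
        group
      rw [h2, ← hx₀, ← map_inv, ← map_mul, ← map_mul, hfe]

end Cfsg.Agent.AutPO
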