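import Cfsg.Agent.Lib.Lead.AutPSU.UPhi
import Mathlib

/-!
# Conjugation of `SU_N` by similitudes; the standard automorphisms `g ↦ d ψ(g) d⁻¹` with `d` a diagonal
similitude (lead)
-/

set_option autoImplicit false

namespace Cfsg.Agent.AutPO

open Matrix Cfsg Cfsg.Agent.Lib.Helper5.GLBN Cfsg.Agent.Lib.Helper8.SpBN
  Cfsg.Agent.Lib.Helper8.Tw Cfsg.Agent.Lib.Helper8.AutSp Cfsg.Agent.PSUT Cfsg.Agent.AutPSU
open scoped MatrixGroups

variable {n : ℕ} {F : Type*} [Field F]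

/-- scalar matrices commute with everything -/
theorem dgU_const_comm (c : Fˣ) (g : GL (Fin n) F) :
    dgU (fun _ => c) * g = g * dgU (fun _ => c) := by
  apply Units.ext
  rw [Units.val_mul, Units.val_mul, dgU_coe]
  ext i j
  rw [Matrix.diagonal_mul, Matrix.mul_diagonal, mul_comm]

/-- `w` is a similitude of the antidiagonal form: its twisted inverse transpose is a scalar multiple of
`w` -/
def IsSim (φ : F →+* F) (w : GL (Fin n) F) : Prop :=
  ∃ c : Fˣ, usig φ w = w * dgU (fun _ => c)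

theorem IsSim.inv {φ : F →+* F} {w : GL (Fin n) F} (hw : IsSim φ w) : IsSim φ w⁻¹ := by
  obtain ⟨c, hc⟩ := hw
  refine ⟨c⁻¹, ?_⟩
  rw [map_inv, hc, _root_.mul_inv_rev, dgU_inv, dgU_const_comm]

theorem IsSim.conj_mem {φ : F →+* F} {w : GL (Fin n) F} (hw : IsSim φ w) {g : GL (Fin n) F}
    (hg : g ∈ UH n F φ) : w * g * w⁻¹ ∈ UH n F φ := by
  obtain ⟨c, hc⟩ := hw
  rw [mem_UH] at hg ⊢
  rw [map_mul, map_mul, map_inv, hc, hg, _root_.mul_inv_rev, mul_assoc w, dgU_const_comm c g]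
  group

theorem det_conj (w g : GL (Fin n) F) :
    ((w * g * w⁻¹ : GL (Fin n) F) : Matrix (Fin n) (Fin n) F).det
      = (g : Matrix (Fin n) (Fin n) F).det := by
  have h : Matrix.GeneralLinearGroup.det (w * g * w⁻¹) = Matrix.GeneralLinearGroup.det g := by
    rw [map_mul, map_mul, map_inv, mul_comm, ← mul_assoc, inv_mul_cancel, one_mul]
  exact congrArg Units.val h

/-- conjugation of `SU_N` by a similitude -/
noncomputable def conjS {φ : F →+* F} (w : GL (Fin n) F) (hw : IsSim φ w) :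
    ↥(N1 n F φ) ≃* ↥(N1 n F φ) where
  toFun g := mkN1 (w * gl g * w⁻¹) (hw.conj_mem (gl_mem g)) (by rw [det_conj, det_gl])
  invFun g := mkN1 (w⁻¹ * gl g * w⁻¹⁻¹) (hw.inv.conj_mem (gl_mem g)) (by rw [det_conj, det_gl])
  left_inv g := by
    apply gl_injective
    rw [gl_mkN1, gl_mkN1]
    group
  right_inv g := by
    apply gl_injective
    rw [gl_mkN1, gl_mkN1]
    group
  map_mul' g h := by
    apply gl_injective
    show w * (gl g * gl h) * w⁻¹ = (w * gl g * w⁻¹) * (w * gl h * w⁻¹)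
    group

theorem gl_conjS {φ : F →+* F} (w : GL (Fin n) F) (hw : IsSim φ w) (g : ↥(N1 n F φ)) :
    gl (conjS w hw g) = w * gl g * w⁻¹ := rfl

/-- a diagonal matrix with `d i * φ (d i.rev) = μ` is a similitude -/
theorem isSim_dgU {φ : F →+* F} (d : Fin n → Fˣ) (μ : Fˣ)
    (hd : ∀ i, (d i : F) * φ (d i.rev) = μ) : IsSim φ (dgU d) := by
  refine ⟨μ⁻¹, ?_⟩
  rw [usig_dgU, dgU_mul]
  congr 1
  funext i
  apply Units.ext
  rw [map_inv, Units.val_inv_eq_inv_val, Units.coe_map, Units.val_mul, Units.val_inv_eq_inv_val]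
  have h := hd i
  have hμ : (μ : F) ≠ 0 := Units.ne_zero μ
  have hdi : (d i : F) ≠ 0 := Units.ne_zero _
  have : φ (d i.rev : F) = (μ : F) * (d i : F)⁻¹ := by
    rw [← h]
    field_simp
  show (φ (d i.rev : F))⁻¹ = _
  rw [this]
  field_simp

section PhiS

variable {φ : F →+* F} (ψ : F ≃+* F) (hψ : ∀ x, ψ (φ x) = φ (ψ x))
  (d : Fin n → Fˣ) (μ : Fˣ) (hd : ∀ i, (d i : F) * φ (d i.rev) = μ)

/-- the standard automorphism `g ↦ d ψ(g) d⁻¹`, `d` a diagonal similitude -/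
noncomputable def PhiS : ↥(N1 n F φ) ≃* ↥(N1 n F φ) :=
  (fieldU ψ hψ).trans (conjS (dgU d) (isSim_dgU d μ hd))

theorem gl_PhiS (g : ↥(N1 n F φ)) :
    gl (PhiS ψ hψ d μ hd g)
      = dgU d * Matrix.GeneralLinearGroup.map (ψ : F →+* F) (gl g) * (dgU d)⁻¹ := by
  unfold PhiS
  rw [MulEquiv.trans_apply, gl_conjS, gl_fieldU]

include hd in
theorem dS_rev (i : Fin n) : (d i.rev : F) = μ * (φ (d i))⁻¹ := by
  have h := hd i.rev
  rw [Fin.rev_rev] at h
  have : φ (d i : F) ≠ 0 := (map_ne_zero φ).2 (Units.ne_zero _)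
  rw [← h]
  field_simp

include hψ hd in
/-- on the upper root elements of a short node -/
theorem conjS_map_short_up {i₀ i₁ : Fin n} (q : Quad i₀ i₁) (t : F) :
    dgU d * Matrix.GeneralLinearGroup.map (ψ : F →+* F) (shortGL φ q (upT t)) * (dgU d)⁻¹
      = shortGL φ q (upT ((d i₀ : F) * ψ t * ((d i₁)⁻¹ : Fˣ))) := by
  rw [shortGL_upT, shortGL_upT, map_mul, glMap_tv, glMap_tv]
  have e : ∀ a b c : GL (Fin n) F, a * (b * c) * a⁻¹ = (a * b * a⁻¹) * (a * c * a⁻¹) := by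
    intro a b c; group
  rw [e, dgU_conj_tv, dgU_conj_tv]
  congr 2
  rw [Units.val_inv_eq_inv_val, Units.val_inv_eq_inv_val, dS_rev d μ hd, dS_rev d μ hd]
  have hμ : (μ : F) ≠ 0 := Units.ne_zero μ
  have h0 : φ (d i₀ : F) ≠ 0 := (map_ne_zero φ).2 (Units.ne_zero _)
  have h1 : φ (d i₁ : F) ≠ 0 := (map_ne_zero φ).2 (Units.ne_zero _)
  simp only [RingHom.coe_coe, map_neg, map_mul, hψ, map_inv₀]
  field_simp

include hψ hd in
/-- on the lower root elements of a short node -/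
theorem conjS_map_short_lo {i₀ i₁ : Fin n} (q : Quad i₀ i₁) (t : F) :
    dgU d * Matrix.GeneralLinearGroup.map (ψ : F →+* F) (shortGL φ q (loT t)) * (dgU d)⁻¹
      = shortGL φ q (loT ((d i₁ : F) * ψ t * ((d i₀)⁻¹ : Fˣ))) := by
  rw [shortGL_loT, shortGL_loT, map_mul, glMap_tv, glMap_tv]
  have e : ∀ a b c : GL (Fin n) F, a * (b * c) * a⁻¹ = (a * b * a⁻¹) * (a * c * a⁻¹) := by
    intro a b c; group
  rw [e, dgU_conj_tv, dgU_conj_tv]
  congr 2
  rw [Units.val_inv_eq_inv_val, Units.val_inv_eq_inv_val, dS_rev d μ hd, dS_rev d μ hd]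
  have hμ : (μ : F) ≠ 0 := Units.ne_zero μ
  have h0 : φ (d i₀ : F) ≠ 0 := (map_ne_zero φ).2 (Units.ne_zero _)
  have h1 : φ (d i₁ : F) ≠ 0 := (map_ne_zero φ).2 (Units.ne_zero _)
  simp only [RingHom.coe_coe, map_neg, map_mul, hψ, map_inv₀]
  field_simp

end PhiS

/-- a diagonal similitude (for the identity involution) with prescribed entries on the first half of
the coordinates -/
theorem exists_diag_sim (L : ℕ) (hL : 2 * L = n) (D : ℕ → F) (hD : ∀ i, i < L → D i ≠ 0) (μ : Fˣ) :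
    ∃ d : Fin n → Fˣ, (∀ x, (d x : F) * (RingHom.id F) (d x.rev) = μ) ∧
      (∀ i (h : i < L), (d (ix n i (by omega)) : F) = D i) := by
  classical
  have hμ : (μ : F) ≠ 0 := Units.ne_zero μ
  let dd : Fin n → F := fun x => if x.1 < L then D x.1 else μ * (D (n - 1 - x.1))⁻¹
  have hdd : ∀ x, dd x ≠ 0 := by
    intro x
    simp only [dd]
    split_ifs with h1
    · exact hD _ h1
    · exact mul_ne_zero hμ (inv_ne_zero (hD _ (by have := x.2; omega)))
  refine ⟨fun x => Units.mk0 (dd x) (hdd x), ?_, ?_⟩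
  · intro x
    simp only [Units.val_mk0, dd, Fin.val_rev, RingHom.id_apply]
    by_cases h1 : x.1 < L
    · have h2 : ¬ (n - (x.1 + 1) < L) := by omega
      rw [if_pos h1, if_neg h2]
      have : n - 1 - (n - (x.1 + 1)) = x.1 := by omega
      rw [this]
      have := hD _ h1
      field_simp
    · have h3 : n - (x.1 + 1) < L := by have := x.2; omega
      rw [if_neg h1, if_pos h3]
      have : n - 1 - x.1 = n - (x.1 + 1) := by omega
      rw [this]
      have := hD _ h3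
      field_simp
  · intro i h
    simp only [Units.val_mk0, dd]
    exact if_pos h

end Cfsg.Agent.AutPO
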