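import Cfsg.Agent.Lib.Lead.AutPSU.UChain
import Mathlib

/-!
# A tree of linked rank one families: a common field automorphism (lead)
-/

set_option autoImplicit false

namespace Cfsg.Agent.AutPO

open Cfsg.Agent.TwRankOne Cfsg.Agent.TwRankOne.Shape

variable {k : Type*} [Field k] {G : Type*} [Group G]

/-- **shape on a tree of rank one families**: if every family other than the first is linked to an
earlier one through its torus, all the families have a common field automorphism -/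
theorem tree_shape [Finite k] {m : ℕ} (R : Fin m → RFam k G) (th : G ≃* G)
    (p : Fin m → Fin m) (hp : ∀ j : Fin m, 0 < j.1 → (p j).1 < j.1)
    (hlink : ∀ j : Fin m, 0 < j.1 → ∀ a : k, a ≠ 0 → Acts (R j).X ((R (p j)).h a) a⁻¹)
    (hX : ∀ j u, ∃ v, th ((R j).X u) = (R j).X v)
    (hY : ∀ j u, ∃ v, th ((R j).Y u) = (R j).Y v) (hm : 0 < m) :
    ∃ (ψ : k ≃+* k) (c : Fin m → k), ∀ j, c j ≠ 0 ∧
      (∀ t, th ((R j).X t) = (R j).X (c j * ψ t)) ∧
      (∀ t, th ((R j).Y t) = (R j).Y ((c j)⁻¹ * ψ t)) ∧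
      (∀ a, a ≠ 0 → th ((R j).h a) = (R j).h (c j * ψ a) * ((R j).h (c j))⁻¹) := by
  choose φ hφ using hX
  choose γ hγ using hY
  have key : ∀ j, ∃ ψ : k ≃+* k, φ j 1 ≠ 0 ∧ (∀ t, φ j t = φ j 1 * ψ t) ∧
      (∀ t, γ j t = (φ j 1)⁻¹ * ψ t) ∧
      (∀ a, a ≠ 0 → th ((R j).h a) = (R j).h (φ j a) * ((R j).h (φ j 1))⁻¹) :=
    fun j => (R j).shape th (hφ j) (hγ j)
  choose ψ h1 hψ hγψ tor using key
  have step : ∀ j : Fin m, 0 < j.1 → ψ j = ψ (p j) := by
    intro j h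
    apply RingEquiv.ext
    intro a
    exact RFam.link (R (p j)) (R j) (RingHom.id k) (fun a ha => hlink j h a ha) th
      (hφ j) (ψ (p j)) (ψ j) (h1 _) (hψ _) (h1 _) (hψ _) (tor _) a
  have all : ∀ (i : ℕ) (h : i < m), ψ ⟨i, h⟩ = ψ ⟨0, hm⟩ := by
    intro i
    induction i using Nat.strong_induction_on with
    | _ i ih =>
      intro h
      rcases Nat.eq_zero_or_pos i with h0 | h0
      · subst h0; rfl
      · rw [step ⟨i, h⟩ h0]
        exact ih (p ⟨i, h⟩).1 (hp ⟨i, h⟩ h0) (p ⟨i, h⟩).2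
  refine ⟨ψ ⟨0, hm⟩, fun j => φ j 1, fun j => ?_⟩
  have e : ψ j = ψ ⟨0, hm⟩ := all j.1 j.2
  refine ⟨h1 j, fun t => ?_, fun t => ?_, fun a ha => ?_⟩
  · rw [hφ, hψ j t, e]
  · rw [hγ, hγψ j t, e]
  · rw [tor j a ha, hψ j a, e]

end Cfsg.Agent.AutPO
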