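import Cfsg.Agent.Lib.Lead.AutPO.ONodes
import Cfsg.Agent.Lib.Lead.AutPO.DTree
import Cfsg.Agent.Lib.Lead.AutPO.DPhi
import Mathlib

/-!
# The rank one families of the even-dimensional orthogonal group of plus type (lead)

`N = 2 κ + 4`, antidiagonal form: the chain nodes `sO j` (`j ≤ κ`, coordinates `j, j+1`) and the fork
node `fO` (coordinates `κ` and the mirror of `κ+1`), linked to the node `κ - 1`.
`DCtx` : a subgroup `G0` of `N1 N F id` containing the images of the node homomorphisms, with a central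
quotient `f : G0 → Q`.
-/

set_option autoImplicit false

namespace Cfsg.Agent.AutPO

open Matrix Cfsg Cfsg.Agent.Lib.Helper5.GLBN Cfsg.Agent.Lib.Helper8.SpBN
  Cfsg.Agent.Lib.Helper8.Tw Cfsg.Agent.Lib.Helper8.AutSp Cfsg.Agent.PSUT Cfsg.Agent.AutPSU
  Cfsg.Agent.TwRankOne Cfsg.Agent.TwRankOne.Shape
open scoped MatrixGroups

variable {N : ℕ} {F : Type*} [Field F]

/-- two short nodes sharing a coordinate are linked -/
theorem shortGL_link (φ : F →+* F) {i₀ i₁ j₁ : Fin N} (q : Quad i₀ i₁) (q' : Quad i₁ j₁)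
    (h0 : j₁ ≠ i₀) (h3 : j₁ ≠ i₀.rev) (a : F) (ha : a ≠ 0) (u : F) :
    shortGL φ q (dgT a ha) * shortGL φ q' (upT u)
      = shortGL φ q' (upT (a⁻¹ * u)) * shortGL φ q (dgT a ha) := by
  rw [shortGL_dgT, shortGL_upT, shortGL_upT, ← mul_assoc, dgU_mul_tv, mul_assoc, dgU_mul_tv,
    ← mul_assoc]
  have r1 : j₁ ≠ i₁.rev := fun h => q'.h01 (by rw [h, Fin.rev_rev])
  have e1 : (shortD φ q a ha i₁ : F) = a⁻¹ := shortD_i₁ φ _ a ha
  have e2 : shortD φ q a ha j₁ = 1 := shortD_other φ _ a ha _ h0 q'.ne.symm r1 h3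
  have e3 : shortD φ q a ha j₁.rev = 1 :=
    shortD_other φ _ a ha _ (fun h => h3 (by rw [← h, Fin.rev_rev])) q'.h01.symm
      (fun h => q'.ne (Fin.rev_injective h).symm) (fun h => h0 (Fin.rev_injective h))
  have e4 : (shortD φ q a ha i₁.rev : F) = φ a := shortD_i₁_rev φ _ a ha
  have hφa : φ a ≠ 0 := (map_ne_zero φ).2 ha
  congr 2
  · congr 1
    rw [e1, e2]
    simp
  · congr 1
    rw [e3, Units.val_inv_eq_inv_val, e4]
    simp only [Units.val_one, map_mul, map_inv₀]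
    field_simp

/-- the four coordinates of the fork node -/
theorem forkQuad (κ : ℕ) (hN : N = 2 * κ + 4) :
    Quad (ix N κ (by omega)) (ix N (κ + 1) (by omega)).rev where
  ne := ix_ne_rev _ _ (by omega)
  h01 := by
    rw [Fin.rev_rev]
    exact ix_ne _ _ (by omega)
  h00 := ix_ne_rev _ _ (by omega)
  h11 := by
    rw [Fin.rev_rev]
    exact (ix_ne_rev _ _ (by omega)).symm

/-- the block homomorphism of the fork node -/
noncomputable def fO (κ : ℕ) (hN : N = 2 * κ + 4) :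
    Matrix.SpecialLinearGroup (Fin 2) F →* ↥(N1 N F (RingHom.id F)) :=
  shortHom (RingHom.id F) idInv (forkQuad κ hN)

theorem gl_fO (κ : ℕ) (hN : N = 2 * κ + 4) (g : Matrix.SpecialLinearGroup (Fin 2) F) :
    gl (fO κ hN g) = shortGL (RingHom.id F) (forkQuad κ hN) g := rfl

/-- the fork node is linked to the node `κ - 1` -/
theorem sO_link_fork (j : ℕ) (hN : N = 2 * (j + 1) + 4) (a : F) (ha : a ≠ 0) (u : F) :
    sO j (by omega) (dgT a ha) * fO (j + 1) hN (upT u)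
      = fO (j + 1) hN (upT (a⁻¹ * u)) * sO j (by omega) (dgT a ha) := by
  apply gl_injective
  rw [gl_mul, gl_mul, gl_sO, gl_fO, gl_fO]
  exact shortGL_link (RingHom.id F) (quad j (by omega)) (forkQuad (j + 1) hN)
    (ix_ne_rev _ _ (by omega)).symm
    (ix_rev_ne_rev _ _ (by omega)) a ha u

/-- a central quotient of a subgroup `G0` of `SO_N` (`N = 2 κ + 4`, antidiagonal form) containing the
images of the node homomorphisms of type `D` -/
structure DCtx (N : ℕ) (F : Type*) [Field F] (Q : Type*) [Group Q] where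
  κ : ℕ
  hN : N = 2 * κ + 4
  G0 : Subgroup ↥(N1 N F (RingHom.id F))
  f : ↥G0 →* Q
  hf : Function.Surjective f
  hker : f.ker = Subgroup.center ↥G0
  hZ : ∀ g : ↥G0, g ∈ Subgroup.center ↥G0 → ∃ c : F,
    ((gl g.1 : GL (Fin N) F) : Matrix (Fin N) (Fin N) F) = Matrix.diagonal fun _ => c
  hS : ∀ (j : ℕ) (hj : 2 * j + 4 ≤ N) (x : Matrix.SpecialLinearGroup (Fin 2) F), sO j hj x ∈ G0
  hF : ∀ x : Matrix.SpecialLinearGroup (Fin 2) F, fO κ hN x ∈ G0

namespace DCtx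

variable {Q : Type*} [Group Q] (C : DCtx N F Q)

/-- the chain node homomorphisms, into `G0` -/
noncomputable def sN (j : ℕ) (hj : 2 * j + 4 ≤ N) :
    Matrix.SpecialLinearGroup (Fin 2) F →* ↥C.G0 :=
  (sO j hj).codRestrict C.G0 (C.hS j hj)

/-- the fork node homomorphism, into `G0` -/
noncomputable def fN : Matrix.SpecialLinearGroup (Fin 2) F →* ↥C.G0 :=
  (fO C.κ C.hN).codRestrict C.G0 C.hF

theorem sN_coe (j : ℕ) (hj : 2 * j + 4 ≤ N) (x : Matrix.SpecialLinearGroup (Fin 2) F) :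
    ((C.sN j hj x : ↥C.G0) : ↥(N1 N F (RingHom.id F))) = sO j hj x := rfl

theorem fN_coe (x : Matrix.SpecialLinearGroup (Fin 2) F) :
    ((C.fN x : ↥C.G0) : ↥(N1 N F (RingHom.id F))) = fO C.κ C.hN x := rfl

theorem f_eq_one {g : ↥C.G0} (h : C.f g = 1) : ∃ c : F,
    ((gl g.1 : GL (Fin N) F) : Matrix (Fin N) (Fin N) F) = Matrix.diagonal fun _ => c := by
  apply C.hZ
  rw [← C.hker]
  exact h

theorem sN_ker (j : ℕ) (hj : 2 * j + 4 ≤ N) (g : Matrix.SpecialLinearGroup (Fin 2) F)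
    (h : (C.f.comp (C.sN j hj)) g = 1) : g = 1 ∨ g = -1 := by
  obtain ⟨c, hc⟩ := C.f_eq_one h
  exact shortGL_scalar (RingHom.id F) (quad j hj) g c hc

theorem fN_ker (g : Matrix.SpecialLinearGroup (Fin 2) F)
    (h : (C.f.comp C.fN) g = 1) : g = 1 ∨ g = -1 := by
  obtain ⟨c, hc⟩ := C.f_eq_one h
  exact shortGL_scalar (RingHom.id F) (forkQuad C.κ C.hN) g c hc

/-- the rank one family of the chain node `j` -/
noncomputable def RS (j : ℕ) (hj : 2 * j + 4 ≤ N) : RFam F Q :=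
  RFam.ofSL2 (C.f.comp (C.sN j hj)) (C.sN_ker j hj)

/-- the rank one family of the fork node -/
noncomputable def RF : RFam F Q :=
  RFam.ofSL2 (C.f.comp C.fN) C.fN_ker

theorem RS_X (j : ℕ) (hj : 2 * j + 4 ≤ N) (t : F) : (C.RS j hj).X t = C.f (C.sN j hj (upT t)) := rfl
theorem RS_Y (j : ℕ) (hj : 2 * j + 4 ≤ N) (t : F) : (C.RS j hj).Y t = C.f (C.sN j hj (loT t)) := rfl
theorem RF_X (t : F) : C.RF.X t = C.f (C.fN (upT t)) := rfl
theorem RF_Y (t : F) : C.RF.Y t = C.f (C.fN (loT t)) := rfl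

theorem RS_h (j : ℕ) (hj : 2 * j + 4 ≤ N) (a : F) (ha : a ≠ 0) :
    (C.RS j hj).h a = C.f (C.sN j hj (dgT a ha)) :=
  RFam.ofSL2_h _ _ a ha

/-- consecutive chain nodes are linked -/
theorem link_short (j : ℕ) (hj : 2 * (j + 1) + 4 ≤ N) (a : F) (ha : a ≠ 0) :
    Acts (C.RS (j + 1) hj).X ((C.RS j (by omega)).h a) a⁻¹ := by
  intro u
  rw [RS_h _ _ _ _ ha, RS_X, RS_X, ← map_mul, ← map_mul]
  congr 1
  apply Subtype.ext
  rw [Subgroup.coe_mul, Subgroup.coe_mul, sN_coe, sN_coe, sN_coe]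
  exact sO_link j hj a ha u

/-- the fork node is linked to the chain node `κ - 1` -/
theorem link_fork (j : ℕ) (hκ : C.κ = j + 1) (a : F) (ha : a ≠ 0) :
    Acts C.RF.X ((C.RS j (by have := C.hN; omega)).h a) a⁻¹ := by
  intro u
  rw [RS_h _ _ _ _ ha, RF_X, RF_X, ← map_mul, ← map_mul]
  congr 1
  apply Subtype.ext
  rw [Subgroup.coe_mul, Subgroup.coe_mul, sN_coe, fN_coe, fN_coe]
  have hN' : N = 2 * (j + 1) + 4 := by have := C.hN; omega
  have key := sO_link_fork j hN' a ha u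
  convert key using 3 <;> simp [hκ]

end DCtx

end Cfsg.Agent.AutPO
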