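import Cfsg.Agent.Lib.Lead.AutPO.DG0
import Mathlib

/-!
# The twisted node of the even-dimensional orthogonal group of minus type (lead)

In the model `N = 2 κ + 4` of type `D` over a field `K` with an involution `cj`, the last chain node
`sO κ` and the fork node `fO κ` commute; the twisted node is `tO x = sO κ x * fO κ (cj x)`, a
homomorphism of `SL₂(K)` whose kernel lies in `{1, -1}`.  It is linked to the chain node `κ - 1`
through the elements of the fixed field.
-/

set_option autoImplicit false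
set_option linter.unusedSimpArgs false
set_option linter.unusedSectionVars false

namespace Cfsg.Agent.AutPO

open Matrix Cfsg Cfsg.Agent.Lib.Helper5.GLBN Cfsg.Agent.Lib.Helper8.SpBN
  Cfsg.Agent.Lib.Helper8.Tw Cfsg.Agent.Lib.Helper8.AutSp Cfsg.Agent.PSUT Cfsg.Agent.AutPSU
  Cfsg.Agent.TwRankOne Cfsg.Agent.TwRankOne.Shape
open scoped MatrixGroups

variable {N : ℕ} {F : Type*} [Field F]

/-- two pairs of transvections: the product matrix -/
theorem tv_pair_coe (a b c d : Fin N) (hab : a ≠ b) (hcd : c ≠ d) (hbc : b ≠ c) (t s : F) :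
    ((tv a b hab t * tv c d hcd s : GL (Fin N) F) : Matrix (Fin N) (Fin N) F)
      = 1 + (Matrix.single a b t + Matrix.single c d s) := by
  rw [Units.val_mul, tv_coe, tv_coe, Matrix.transvection, Matrix.transvection, Matrix.add_mul,
    Matrix.mul_add, Matrix.mul_add, Matrix.one_mul, Matrix.mul_one, Matrix.one_mul,
    Matrix.single_mul_single_of_ne _ _ _ _ hbc]
  abel

/-- `1 + X` and `1 + Y` commute when `X Y = Y X` -/
theorem one_add_comm {n : Type*} [Fintype n] [DecidableEq n] (X Y : Matrix n n F)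
    (h : X * Y = Y * X) : (1 + X) * (1 + Y) = (1 + Y) * (1 + X) := by
  rw [Matrix.add_mul, Matrix.mul_add, Matrix.mul_add, Matrix.add_mul, Matrix.mul_add,
    Matrix.mul_add, h]
  simp only [Matrix.one_mul, Matrix.mul_one]
  abel

/-- commuting of two products of two transvections, from the commuting of the nilpotent parts -/
theorem tv_pair_comm (a b c d a' b' c' d' : Fin N) (hab : a ≠ b) (hcd : c ≠ d) (hbc : b ≠ c)
    (hab' : a' ≠ b') (hcd' : c' ≠ d') (hbc' : b' ≠ c') (t s t' s' : F)
    (h : (Matrix.single a b t + Matrix.single c d s : Matrix (Fin N) (Fin N) F)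
        * (Matrix.single a' b' t' + Matrix.single c' d' s')
      = (Matrix.single a' b' t' + Matrix.single c' d' s')
        * (Matrix.single a b t + Matrix.single c d s)) :
    (tv a b hab t * tv c d hcd s) * (tv a' b' hab' t' * tv c' d' hcd' s')
      = (tv a' b' hab' t' * tv c' d' hcd' s') * (tv a b hab t * tv c d hcd s) := by
  apply Units.ext
  rw [Units.val_mul (tv a b hab t * tv c d hcd s),
    Units.val_mul (tv a' b' hab' t' * tv c' d' hcd' s'),
    tv_pair_coe _ _ _ _ _ _ hbc, tv_pair_coe _ _ _ _ _ _ hbc']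
  exact one_add_comm _ _ h

section four

variable (a b b' a' : Fin N) (hab : a ≠ b) (hab' : a ≠ b') (haa' : a ≠ a') (hbb' : b ≠ b')
  (hba' : b ≠ a') (hb'a' : b' ≠ a')
include hab hab' haa' hbb' hba' hb'a'

theorem comm4_UU (t u : F) :
    (tv a b hab t * tv b' a' hb'a' (-t)) * (tv a b' hab' u * tv b a' hba' (-u))
      = (tv a b' hab' u * tv b a' hba' (-u)) * (tv a b hab t * tv b' a' hb'a' (-t)) := by
  apply tv_pair_comm _ _ _ _ _ _ _ _ _ _ hbb' _ _ hbb'.symm
  simp only [Matrix.add_mul, Matrix.mul_add, Matrix.single_mul_single_same,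
    Matrix.single_mul_single_of_ne _ _ _ _ hab.symm,
    Matrix.single_mul_single_of_ne _ _ _ _ haa'.symm,
    Matrix.single_mul_single_of_ne _ _ _ _ hab'.symm, Matrix.single_mul_single_of_ne _ _ _ _ hbb',
    Matrix.single_mul_single_of_ne _ _ _ _ hbb'.symm,
    Matrix.single_mul_single_of_ne _ _ _ _ hba'.symm,
    Matrix.single_mul_single_of_ne _ _ _ _ hb'a'.symm]
  simp
  ring_nf

theorem comm4_UL (t u : F) :
    (tv a b hab t * tv b' a' hb'a' (-t)) * (tv b' a hab'.symm u * tv a' b hba'.symm (-u))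
      = (tv b' a hab'.symm u * tv a' b hba'.symm (-u)) * (tv a b hab t * tv b' a' hb'a' (-t)) := by
  apply tv_pair_comm _ _ _ _ _ _ _ _ _ _ hbb' _ _ haa'
  simp only [Matrix.add_mul, Matrix.mul_add, Matrix.single_mul_single_same,
    Matrix.single_mul_single_of_ne _ _ _ _ hab, Matrix.single_mul_single_of_ne _ _ _ _ haa',
    Matrix.single_mul_single_of_ne _ _ _ _ hab', Matrix.single_mul_single_of_ne _ _ _ _ hba',
    Matrix.single_mul_single_of_ne _ _ _ _ hb'a',
    Matrix.single_mul_single_of_ne _ _ _ _ hab.symm,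
    Matrix.single_mul_single_of_ne _ _ _ _ haa'.symm,
    Matrix.single_mul_single_of_ne _ _ _ _ hab'.symm, Matrix.single_mul_single_of_ne _ _ _ _ hbb',
    Matrix.single_mul_single_of_ne _ _ _ _ hbb'.symm,
    Matrix.single_mul_single_of_ne _ _ _ _ hba'.symm,
    Matrix.single_mul_single_of_ne _ _ _ _ hb'a'.symm]
  simp
  ring_nf

theorem comm4_LU (t u : F) :
    (tv b a hab.symm t * tv a' b' hb'a'.symm (-t)) * (tv a b' hab' u * tv b a' hba' (-u))
      = (tv a b' hab' u * tv b a' hba' (-u)) * (tv b a hab.symm t * tv a' b' hb'a'.symm (-t)) := by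
  apply tv_pair_comm _ _ _ _ _ _ _ _ _ _ haa' _ _ hbb'.symm
  simp only [Matrix.add_mul, Matrix.mul_add, Matrix.single_mul_single_same,
    Matrix.single_mul_single_of_ne _ _ _ _ hab, Matrix.single_mul_single_of_ne _ _ _ _ haa',
    Matrix.single_mul_single_of_ne _ _ _ _ hab', Matrix.single_mul_single_of_ne _ _ _ _ hba',
    Matrix.single_mul_single_of_ne _ _ _ _ hb'a',
    Matrix.single_mul_single_of_ne _ _ _ _ hab.symm,
    Matrix.single_mul_single_of_ne _ _ _ _ haa'.symm,
    Matrix.single_mul_single_of_ne _ _ _ _ hab'.symm, Matrix.single_mul_single_of_ne _ _ _ _ hbb',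
    Matrix.single_mul_single_of_ne _ _ _ _ hbb'.symm,
    Matrix.single_mul_single_of_ne _ _ _ _ hba'.symm,
    Matrix.single_mul_single_of_ne _ _ _ _ hb'a'.symm]
  simp
  ring_nf

theorem comm4_LL (t u : F) :
    (tv b a hab.symm t * tv a' b' hb'a'.symm (-t))
        * (tv b' a hab'.symm u * tv a' b hba'.symm (-u))
      = (tv b' a hab'.symm u * tv a' b hba'.symm (-u))
        * (tv b a hab.symm t * tv a' b' hb'a'.symm (-t)) := by
  apply tv_pair_comm _ _ _ _ _ _ _ _ _ _ haa' _ _ haa'
  simp only [Matrix.add_mul, Matrix.mul_add, Matrix.single_mul_single_same,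
    Matrix.single_mul_single_of_ne _ _ _ _ hab, Matrix.single_mul_single_of_ne _ _ _ _ haa',
    Matrix.single_mul_single_of_ne _ _ _ _ hab', Matrix.single_mul_single_of_ne _ _ _ _ hba',
    Matrix.single_mul_single_of_ne _ _ _ _ hb'a',
    Matrix.single_mul_single_of_ne _ _ _ _ hab.symm,
    Matrix.single_mul_single_of_ne _ _ _ _ haa'.symm,
    Matrix.single_mul_single_of_ne _ _ _ _ hab'.symm, Matrix.single_mul_single_of_ne _ _ _ _ hbb',
    Matrix.single_mul_single_of_ne _ _ _ _ hbb'.symm,
    Matrix.single_mul_single_of_ne _ _ _ _ hba'.symm,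
    Matrix.single_mul_single_of_ne _ _ _ _ hb'a'.symm]
  simp
  ring_nf

end four

/-! ### the last chain node and the fork node commute -/

section comm

variable (κ : ℕ) (hN : N = 2 * κ + 4)

theorem tv_congr4 {a a' b b' : Fin N} (ha : a = a') (hb : b = b') (h : a ≠ b) (h' : a' ≠ b')
    (c c' : F) (hc : c = c') : tv a b h c = tv a' b' h' c' := by
  subst ha hb hc; rfl

theorem fO_upT_eq (u : F) :
    gl (fO κ hN (upT u)) = tv (ix N κ (by omega)) (ix N (κ + 1) (by omega)).rev
        (ix_ne_rev _ _ (by omega)) u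
      * tv (ix N (κ + 1) (by omega)) (ix N κ (by omega)).rev (ix_ne_rev _ _ (by omega)) (-u) := by
  rw [gl_fO, shortGL_upT]
  congr 1
  apply tv_congr4
  · exact Fin.rev_rev _
  · rfl
  · rfl

theorem fO_loT_eq (u : F) :
    gl (fO κ hN (loT u)) = tv (ix N (κ + 1) (by omega)).rev (ix N κ (by omega))
        (ix_ne_rev _ _ (by omega)).symm u
      * tv (ix N κ (by omega)).rev (ix N (κ + 1) (by omega)) (ix_ne_rev _ _ (by omega)).symm
        (-u) := by
  rw [gl_fO, shortGL_loT]
  congr 1
  apply tv_congr4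
  · rfl
  · exact Fin.rev_rev _
  · rfl

theorem sO_upT_eq (t : F) :
    gl (sO κ (by omega) (upT t) : ↥(N1 N F (RingHom.id F)))
      = tv (ix N κ (by omega)) (ix N (κ + 1) (by omega)) (ix_ne _ _ (by omega)) t
      * tv (ix N (κ + 1) (by omega)).rev (ix N κ (by omega)).rev (ix_rev_ne_rev _ _ (by omega))
        (-t) := by
  rw [gl_sO, shortGL_upT]
  rfl

theorem sO_loT_eq (t : F) :
    gl (sO κ (by omega) (loT t) : ↥(N1 N F (RingHom.id F)))
      = tv (ix N (κ + 1) (by omega)) (ix N κ (by omega)) (ix_ne _ _ (by omega)) t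
      * tv (ix N κ (by omega)).rev (ix N (κ + 1) (by omega)).rev (ix_rev_ne_rev _ _ (by omega))
        (-t) := by
  rw [gl_sO, shortGL_loT]
  rfl

/-- **the last chain node and the fork node commute** -/
theorem sO_fO_comm (x y : Matrix.SpecialLinearGroup (Fin 2) F) :
    sO κ (by omega) x * fO κ hN y = fO κ hN y * sO κ (by omega) x := by
  have hab : ix N κ (by omega) ≠ ix N (κ + 1) (by omega) := ix_ne _ _ (by omega)
  have hab' : ix N κ (by omega) ≠ (ix N (κ + 1) (by omega)).rev := ix_ne_rev _ _ (by omega)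
  have haa' : ix N κ (by omega) ≠ (ix N κ (by omega)).rev := ix_ne_rev _ _ (by omega)
  have hbb' : ix N (κ + 1) (by omega) ≠ (ix N (κ + 1) (by omega)).rev := ix_ne_rev _ _ (by omega)
  have hba' : ix N (κ + 1) (by omega) ≠ (ix N κ (by omega)).rev := ix_ne_rev _ _ (by omega)
  have hb'a' : (ix N (κ + 1) (by omega)).rev ≠ (ix N κ (by omega)).rev :=
    ix_rev_ne_rev _ _ (by omega)
  -- the centralizer of the image of the fork node contains the elementary matrices
  have key : ∀ y : Matrix.SpecialLinearGroup (Fin 2) F, ∀ x : Matrix.SpecialLinearGroup (Fin 2) F,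
      sO κ (by omega) x ∈ Subgroup.centralizer {(fO κ hN y : ↥(N1 N F (RingHom.id F)))} := by
    intro y
    have hy : (fO κ hN y : ↥(N1 N F (RingHom.id F))) ∈ Subgroup.centralizer
        ((sO κ (by omega) : Matrix.SpecialLinearGroup (Fin 2) F →* ↥(N1 N F (RingHom.id F)))
          '' (Set.range upT ∪ Set.range loT)) := by
      apply sl2_map_mem (fO κ hN) _ _ _ y
      · intro u
        rw [Subgroup.mem_centralizer_iff]
        rintro _ ⟨_, (⟨t, rfl⟩ | ⟨t, rfl⟩), rfl⟩
        · apply gl_injective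
          rw [gl_mul, gl_mul, sO_upT_eq κ hN, fO_upT_eq κ hN]
          exact comm4_UU _ _ _ _ hab hab' haa' hbb' hba' hb'a' t u
        · apply gl_injective
          rw [gl_mul, gl_mul, sO_loT_eq κ hN, fO_upT_eq κ hN]
          exact comm4_LU _ _ _ _ hab hab' haa' hbb' hba' hb'a' t u
      · intro u
        rw [Subgroup.mem_centralizer_iff]
        rintro _ ⟨_, (⟨t, rfl⟩ | ⟨t, rfl⟩), rfl⟩
        · apply gl_injective
          rw [gl_mul, gl_mul, sO_upT_eq κ hN, fO_loT_eq κ hN]
          exact comm4_UL _ _ _ _ hab hab' haa' hbb' hba' hb'a' t u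
        · apply gl_injective
          rw [gl_mul, gl_mul, sO_loT_eq κ hN, fO_loT_eq κ hN]
          exact comm4_LL _ _ _ _ hab hab' haa' hbb' hba' hb'a' t u
    intro x
    apply sl2_map_mem (sO κ (by omega)) _ _ _ x
    · intro t
      rw [Subgroup.mem_centralizer_iff]
      rintro _ rfl
      exact ((Subgroup.mem_centralizer_iff.1 hy) _ ⟨upT t, Or.inl ⟨t, rfl⟩, rfl⟩).symm
    · intro t
      rw [Subgroup.mem_centralizer_iff]
      rintro _ rfl
      exact ((Subgroup.mem_centralizer_iff.1 hy) _ ⟨loT t, Or.inr ⟨t, rfl⟩, rfl⟩).symm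
  exact ((Subgroup.mem_centralizer_iff.1 (key y x)) _ rfl).symm

end comm

/-! ### the twisted node -/

section twisted

variable (κ : ℕ) (hN : N = 2 * κ + 4) (cj : F →+* F)

/-- the twisted node `x ↦ sO κ x * fO κ (cj x)` -/
noncomputable def tO : Matrix.SpecialLinearGroup (Fin 2) F →* ↥(N1 N F (RingHom.id F)) where
  toFun x := sO κ (by omega) x * fO κ hN (Matrix.SpecialLinearGroup.map cj x)
  map_one' := by rw [map_one, map_one, map_one, one_mul]
  map_mul' x y := by
    rw [map_mul, map_mul, map_mul]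
    have h := sO_fO_comm κ hN y (Matrix.SpecialLinearGroup.map cj x)
    calc sO κ (by omega) x * sO κ (by omega) y
          * (fO κ hN (Matrix.SpecialLinearGroup.map cj x)
            * fO κ hN (Matrix.SpecialLinearGroup.map cj y))
        = sO κ (by omega) x * (sO κ (by omega) y * fO κ hN (Matrix.SpecialLinearGroup.map cj x))
            * fO κ hN (Matrix.SpecialLinearGroup.map cj y) := by group
      _ = sO κ (by omega) x * fO κ hN (Matrix.SpecialLinearGroup.map cj x)
            * (sO κ (by omega) y * fO κ hN (Matrix.SpecialLinearGroup.map cj y)) := by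
          rw [h]; group

theorem tO_apply (x : Matrix.SpecialLinearGroup (Fin 2) F) :
    tO κ hN cj x = sO κ (by omega) x * fO κ hN (Matrix.SpecialLinearGroup.map cj x) := rfl

omit cj in
theorem map_upT {K : Type*} [Field K] (cj : F →+* K) (t : F) :
    Matrix.SpecialLinearGroup.map cj (upT t) = upT (cj t) := by
  apply Subtype.ext
  show cj.mapMatrix !![1, t; 0, 1] = !![1, cj t; 0, 1]
  ext i j
  fin_cases i <;> fin_cases j <;> simp [RingHom.mapMatrix_apply]

omit cj in
theorem map_loT {K : Type*} [Field K] (cj : F →+* K) (t : F) :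
    Matrix.SpecialLinearGroup.map cj (loT t) = loT (cj t) := by
  apply Subtype.ext
  show cj.mapMatrix !![1, 0; t, 1] = !![1, 0; cj t, 1]
  ext i j
  fin_cases i <;> fin_cases j <;> simp [RingHom.mapMatrix_apply]

omit cj in
theorem map_dgT {K : Type*} [Field K] (cj : F →+* K) (a : F) (ha : a ≠ 0) :
    Matrix.SpecialLinearGroup.map cj (dgT a ha) = dgT (cj a) ((map_ne_zero cj).2 ha) := by
  apply Subtype.ext
  show cj.mapMatrix !![a, 0; 0, a⁻¹] = !![cj a, 0; 0, (cj a)⁻¹]
  ext i j
  fin_cases i <;> fin_cases j <;> simp [RingHom.mapMatrix_apply]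

omit cj in
theorem map_sl2_injective {K : Type*} [Field K] (cj : F →+* K) :
    Function.Injective (Matrix.SpecialLinearGroup.map (n := Fin 2) cj) := by
  intro g h e
  apply Subtype.ext
  ext i j
  have := congrArg (fun x : Matrix.SpecialLinearGroup (Fin 2) K => x.1 i j) e
  exact cj.injective this

theorem tO_upT (t : F) :
    tO κ hN cj (upT t) = sO κ (by omega) (upT t) * fO κ hN (upT (cj t)) := by
  rw [tO_apply, map_upT]

theorem tO_loT (t : F) :
    tO κ hN cj (loT t) = sO κ (by omega) (loT t) * fO κ hN (loT (cj t)) := by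
  rw [tO_apply, map_loT]

theorem tO_dgT (a : F) (ha : a ≠ 0) :
    tO κ hN cj (dgT a ha)
      = sO κ (by omega) (dgT a ha) * fO κ hN (dgT (cj a) ((map_ne_zero cj).2 ha)) := by
  rw [tO_apply, map_dgT]

/-- the block homomorphisms are injective -/
theorem shortGL_injective (φ : F →+* F) {i₀ i₁ : Fin N} (q : Quad i₀ i₁) :
    Function.Injective (shortGL φ q) := by
  intro g h e
  apply Subtype.ext
  ext i j
  have h1 := pairGL_apply_apply φ q.e q.e_inj q.e_disj (Matrix.SpecialLinearGroup.toGL g) i j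
  have h2 := pairGL_apply_apply φ q.e q.e_inj q.e_disj (Matrix.SpecialLinearGroup.toGL h) i j
  rw [← shortGL_apply, Matrix.SpecialLinearGroup.coe_GL_coe_matrix] at h1 h2
  rw [← h1, ← h2, e]

theorem sO_injective (j : ℕ) (hj : 2 * j + 4 ≤ N) :
    Function.Injective (sO j hj : Matrix.SpecialLinearGroup (Fin 2) F → ↥(N1 N F (RingHom.id F))) := by
  intro g h e
  apply shortGL_injective (RingHom.id F) (quad j hj)
  rw [← gl_sO j hj, ← gl_sO j hj, e]

/-- a central element of `SL₂` is `±1` -/
theorem sl2_central (x : Matrix.SpecialLinearGroup (Fin 2) F)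
    (h : ∀ y : Matrix.SpecialLinearGroup (Fin 2) F, x * y = y * x) : x = 1 ∨ x = -1 := by
  have h1 := h (upT 1)
  have h2 := h (loT 1)
  have e1 : x.1 1 0 = 0 := by
    have := congrArg (fun g : Matrix.SpecialLinearGroup (Fin 2) F => g.1 0 0) h1
    simp only [Matrix.SpecialLinearGroup.coe_mul, Matrix.mul_apply, Fin.sum_univ_two] at this
    simp [upT] at this
    exact this
  have e2 : x.1 0 0 = x.1 1 1 := by
    have := congrArg (fun g : Matrix.SpecialLinearGroup (Fin 2) F => g.1 0 1) h1
    simp only [Matrix.SpecialLinearGroup.coe_mul, Matrix.mul_apply, Fin.sum_univ_two] at this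
    simp [upT] at this
    linear_combination this
  have e3 : x.1 0 1 = 0 := by
    have := congrArg (fun g : Matrix.SpecialLinearGroup (Fin 2) F => g.1 1 1) h2
    simp only [Matrix.SpecialLinearGroup.coe_mul, Matrix.mul_apply, Fin.sum_univ_two] at this
    simp [loT] at this
    exact this
  have hdet := x.2
  rw [Matrix.det_fin_two, e1, e3, mul_zero, sub_zero, ← e2] at hdet
  have hc : x.1 0 0 = 1 ∨ x.1 0 0 = -1 := by
    have : (x.1 0 0 - 1) * (x.1 0 0 + 1) = 0 := by linear_combination hdet
    rcases mul_eq_zero.1 this with h | h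
    · left; linear_combination h
    · right; linear_combination h
  rcases hc with hc | hc
  · left
    apply Subtype.ext
    ext i j
    fin_cases i <;> fin_cases j <;> simp [hc, e1, e3, ← e2]
  · right
    apply Subtype.ext
    ext i j
    fin_cases i <;> fin_cases j <;>
      simp [Matrix.SpecialLinearGroup.coe_neg, hc, e1, e3, ← e2]

/-- **an element of the twisted node that is a scalar matrix is `±1`** -/
theorem tO_scalar (x : Matrix.SpecialLinearGroup (Fin 2) F) (c : F)
    (h : ((gl (tO κ hN cj x) : GL (Fin N) F) : Matrix (Fin N) (Fin N) F)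
      = Matrix.diagonal fun _ => c) : x = 1 ∨ x = -1 := by
  have hκ : 2 * κ + 4 ≤ N := by omega
  apply sl2_central
  intro y
  apply sO_injective (N := N) κ hκ
  rw [map_mul, map_mul]
  -- `sO κ x = c • (fO κ (cj x))⁻¹` commutes with `sO κ y`
  set A : ↥(N1 N F (RingHom.id F)) := sO κ hκ x with hA
  set B : ↥(N1 N F (RingHom.id F)) := fO κ hN (Matrix.SpecialLinearGroup.map cj x) with hB
  set Y : ↥(N1 N F (RingHom.id F)) := sO κ hκ y with hY
  have hBY : Y * B = B * Y := sO_fO_comm κ hN y _
  have hAB : ∀ Z : ↥(N1 N F (RingHom.id F)), (A * B) * Z = Z * (A * B) := by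
    intro Z
    apply gl_injective
    apply Units.ext
    have e : ((gl (A * B) : GL (Fin N) F) : Matrix (Fin N) (Fin N) F)
        = Matrix.diagonal fun _ => c := h
    rw [gl_mul (A * B) Z, gl_mul Z (A * B), Units.val_mul, Units.val_mul, e]
    ext i j
    rw [Matrix.diagonal_mul, Matrix.mul_diagonal, mul_comm]
  have h1 := hAB Y
  -- `A B Y = Y A B`, `B Y = Y B` so `A Y B = Y A B`
  have h2 : A * Y * B = Y * A * B := by
    calc A * Y * B = A * (Y * B) := by group
      _ = A * (B * Y) := by rw [hBY]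
      _ = (A * B) * Y := by group
      _ = Y * (A * B) := h1
      _ = Y * A * B := by group
  exact mul_right_cancel h2

end twisted

/-- the twisted node is linked to the chain node `κ - 1` through the fixed elements of `cj` -/
theorem sO_link_tO (j : ℕ) (hN : N = 2 * (j + 1) + 4) (cj : F →+* F) (a : F) (ha : a ≠ 0)
    (hfix : cj a = a) (u : F) :
    sO j (by omega) (dgT a ha) * tO (j + 1) hN cj (upT u)
      = tO (j + 1) hN cj (upT (a⁻¹ * u)) * sO j (by omega) (dgT a ha) := by
  rw [tO_upT, tO_upT, map_mul, map_inv₀, hfix]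
  have h1 := sO_link (N := N) j (by omega) a ha u
  have h2 := sO_link_fork j hN a ha (cj u)
  calc sO j (by omega) (dgT a ha) * (sO (j + 1) (by omega) (upT u) * fO (j + 1) hN (upT (cj u)))
      = (sO j (by omega) (dgT a ha) * sO (j + 1) (by omega) (upT u))
          * fO (j + 1) hN (upT (cj u)) := by group
    _ = sO (j + 1) (by omega) (upT (a⁻¹ * u))
          * (sO j (by omega) (dgT a ha) * fO (j + 1) hN (upT (cj u))) := by rw [h1]; group
    _ = sO (j + 1) (by omega) (upT (a⁻¹ * u)) * fO (j + 1) hN (upT (a⁻¹ * cj u))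
          * sO j (by omega) (dgT a ha) := by rw [h2]; group

end Cfsg.Agent.AutPO
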