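import Cfsg.Agent.Lib.Lead.AutPO.OSym
import Cfsg.Agent.Lib.Lead.AutPSU.UOddMain
import Cfsg.Agent.Lib.Lead.AutPSU.UPhi
import Mathlib

/-!
# The rank one families of the odd-dimensional orthogonal group (lead)

`BCtx` : a subgroup `G0` of the special orthogonal group `N1 N F id` (antidiagonal form, `N = 2 κ + 3`)
containing the images of the node homomorphisms, with a central quotient `f : G0 → Q`.
-/

set_option autoImplicit false

namespace Cfsg.Agent.AutPO

open Matrix Cfsg Cfsg.Agent.Lib.Helper5.GLBN Cfsg.Agent.Lib.Helper8.SpBN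
  Cfsg.Agent.Lib.Helper8.Tw Cfsg.Agent.Lib.Helper8.AutSp Cfsg.Agent.PSUT Cfsg.Agent.AutPSU
  Cfsg.Agent.TwRankOne Cfsg.Agent.TwRankOne.Shape
open scoped MatrixGroups

variable {N : ℕ} {F : Type*} [Field F]

/-- the identity is an involution -/
theorem idInv (x : F) : (RingHom.id F) ((RingHom.id F) x) = x := rfl

/-- the block homomorphism of the short node `j` -/
noncomputable def sO (j : ℕ) (hj : 2 * j + 4 ≤ N) :
    Matrix.SpecialLinearGroup (Fin 2) F →* ↥(N1 N F (RingHom.id F)) :=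
  shortHom (RingHom.id F) idInv (quad j hj)

theorem gl_sO (j : ℕ) (hj : 2 * j + 4 ≤ N) (g : Matrix.SpecialLinearGroup (Fin 2) F) :
    gl (sO j hj g) = shortGL (RingHom.id F) (quad j hj) g := rfl

/-- consecutive short nodes are linked (in `SO_N`) -/
theorem sO_link (j : ℕ) (hj : 2 * (j + 1) + 4 ≤ N) (a : F) (ha : a ≠ 0) (u : F) :
    sO j (by omega) (dgT a ha) * sO (j + 1) hj (upT u)
      = sO (j + 1) hj (upT (a⁻¹ * u)) * sO j (by omega) (dgT a ha) := by
  apply gl_injective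
  rw [gl_mul, gl_mul, gl_sO, gl_sO, gl_sO, shortGL_dgT, shortGL_upT, shortGL_upT, ← mul_assoc,
    dgU_mul_tv, mul_assoc, dgU_mul_tv, ← mul_assoc]
  have e1 : (shortD (RingHom.id F) (quad j (by omega)) a ha (ix N (j + 1) (by omega)) : F) = a⁻¹ :=
    shortD_i₁ (RingHom.id F) _ a ha
  have e2 : shortD (RingHom.id F) (quad j (by omega)) a ha (ix N (j + 1 + 1) (by omega)) = 1 :=
    shortD_other (RingHom.id F) _ a ha _ (ix_ne _ _ (by omega)) (ix_ne _ _ (by omega))
      (ix_ne_rev _ _ (by omega)) (ix_ne_rev _ _ (by omega))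
  have e3 : shortD (RingHom.id F) (quad j (by omega)) a ha (ix N (j + 1 + 1) (by omega)).rev = 1 :=
    shortD_other (RingHom.id F) _ a ha _ (ix_ne_rev _ _ (by omega)).symm
      (ix_ne_rev _ _ (by omega)).symm (ix_rev_ne_rev _ _ (by omega)) (ix_rev_ne_rev _ _ (by omega))
  have e4 : (shortD (RingHom.id F) (quad j (by omega)) a ha (ix N (j + 1) (by omega)).rev : F)
      = (RingHom.id F) a := shortD_i₁_rev (RingHom.id F) _ a ha
  congr 2
  · congr 1
    rw [e1, e2]
    simp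
  · congr 1
    rw [e3, Units.val_inv_eq_inv_val, e4]
    simp only [Units.val_one, map_mul, map_inv₀, RingHom.id_apply]
    field_simp

/-- the last short node is linked to the last node (in `SO_N`) -/
theorem sO_link_sym (h2 : (2 : F) ≠ 0) (κ : ℕ) (hN : N = 2 * (κ + 1) + 3) (a : F) (ha : a ≠ 0)
    (u : F) :
    sO κ (by omega) (dgT a ha) * symHom h2 (κ + 1) hN (upT u)
      = symHom h2 (κ + 1) hN (upT (a⁻¹ * u)) * sO κ (by omega) (dgT a ha) := by
  apply gl_injective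
  rw [gl_mul, gl_mul, gl_sO, gl_symHom, gl_symHom, shortGL_dgT, symGL_upT, symGL_upT]
  rw [← mul_inv_eq_iff_eq_mul]
  unfold midGL
  have e0 : eM (κ + 1) hN 0 = ix N (κ + 1) (by omega) := rfl
  have e1 : eM (κ + 1) hN 1 = ix N (κ + 1 + 1) (by omega) := rfl
  have e2 : eM (κ + 1) hN 2 = (ix N (κ + 1) (by omega)).rev := by
    rw [ix_rev]
    apply Fin.ext
    show κ + 1 + 2 = N - 1 - (κ + 1)
    omega
  have d0 : (shortD (RingHom.id F) (quad κ (by omega)) a ha (eM (κ + 1) hN 0) : F) = a⁻¹ := by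
    rw [e0]
    exact shortD_i₁ (RingHom.id F) _ a ha
  have d1 : shortD (RingHom.id F) (quad κ (by omega)) a ha (eM (κ + 1) hN 1) = 1 := by
    rw [e1]
    exact shortD_other (RingHom.id F) _ a ha _ (ix_ne _ _ (by omega)) (ix_ne _ _ (by omega))
      (ix_ne_rev _ _ (by omega)) (ix_ne_rev _ _ (by omega))
  have d2 : (shortD (RingHom.id F) (quad κ (by omega)) a ha (eM (κ + 1) hN 2) : F) = a := by
    rw [e2]
    exact shortD_i₁_rev (RingHom.id F) _ a ha
  rw [dgU_conj_embGL, dgU_conj_X3]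
  · congr 2
    · rw [d0, d1]
      simp
    · rw [d0]
      simp only [RingHom.id_apply]
      field_simp
  · rw [d1]
    simp
  · rw [d2, d0]
    simp only [RingHom.id_apply]
    exact mul_inv_cancel₀ ha

/-- a central quotient of a subgroup `G0` of `SO_N` (`N = 2 κ + 3`, antidiagonal form) containing the
images of the node homomorphisms -/
structure BCtx (N : ℕ) (F : Type*) [Field F] (Q : Type*) [Group Q] where
  h2 : (2 : F) ≠ 0
  κ : ℕ
  hN : N = 2 * κ + 3
  G0 : Subgroup ↥(N1 N F (RingHom.id F))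
  f : ↥G0 →* Q
  hf : Function.Surjective f
  hker : f.ker = Subgroup.center ↥G0
  hZ : ∀ g : ↥G0, g ∈ Subgroup.center ↥G0 → ∃ c : F,
    ((gl g.1 : GL (Fin N) F) : Matrix (Fin N) (Fin N) F) = Matrix.diagonal fun _ => c
  hS : ∀ (j : ℕ) (hj : 2 * j + 4 ≤ N) (x : Matrix.SpecialLinearGroup (Fin 2) F), sO j hj x ∈ G0
  hM : ∀ x : Matrix.SpecialLinearGroup (Fin 2) F, symHom h2 κ hN x ∈ G0

namespace BCtx

variable {Q : Type*} [Group Q] (C : BCtx N F Q)

/-- the short node homomorphisms, into `G0` -/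
noncomputable def sN (j : ℕ) (hj : 2 * j + 4 ≤ N) :
    Matrix.SpecialLinearGroup (Fin 2) F →* ↥C.G0 :=
  (sO j hj).codRestrict C.G0 (C.hS j hj)

/-- the last node homomorphism, into `G0` -/
noncomputable def mN : Matrix.SpecialLinearGroup (Fin 2) F →* ↥C.G0 :=
  (symHom C.h2 C.κ C.hN).codRestrict C.G0 C.hM

theorem sN_coe (j : ℕ) (hj : 2 * j + 4 ≤ N) (x : Matrix.SpecialLinearGroup (Fin 2) F) :
    ((C.sN j hj x : ↥C.G0) : ↥(N1 N F (RingHom.id F))) = sO j hj x := rfl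

theorem mN_coe (x : Matrix.SpecialLinearGroup (Fin 2) F) :
    ((C.mN x : ↥C.G0) : ↥(N1 N F (RingHom.id F))) = symHom C.h2 C.κ C.hN x := rfl

theorem f_eq_one {g : ↥C.G0} (h : C.f g = 1) : ∃ c : F,
    ((gl g.1 : GL (Fin N) F) : Matrix (Fin N) (Fin N) F) = Matrix.diagonal fun _ => c := by
  apply C.hZ
  rw [← C.hker]
  exact h

theorem sN_ker (j : ℕ) (hj : 2 * j + 4 ≤ N) (g : Matrix.SpecialLinearGroup (Fin 2) F)
    (h : (C.f.comp (C.sN j hj)) g = 1) : g = 1 ∨ g = -1 := by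
  obtain ⟨c, hc⟩ := C.f_eq_one h
  exact shortGL_scalar (RingHom.id F) (quad j hj) g c hc

theorem mN_ker (g : Matrix.SpecialLinearGroup (Fin 2) F)
    (h : (C.f.comp C.mN) g = 1) : g = 1 ∨ g = -1 := by
  obtain ⟨c, hc⟩ := C.f_eq_one h
  exact symGL_scalar C.h2 C.κ C.hN g c hc

/-- the rank one family of the short node `j` -/
noncomputable def RS (j : ℕ) (hj : 2 * j + 4 ≤ N) : RFam F Q :=
  RFam.ofSL2 (C.f.comp (C.sN j hj)) (C.sN_ker j hj)

/-- the rank one family of the last node -/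
noncomputable def RM : RFam F Q :=
  RFam.ofSL2 (C.f.comp C.mN) C.mN_ker

theorem RS_X (j : ℕ) (hj : 2 * j + 4 ≤ N) (t : F) : (C.RS j hj).X t = C.f (C.sN j hj (upT t)) := rfl
theorem RS_Y (j : ℕ) (hj : 2 * j + 4 ≤ N) (t : F) : (C.RS j hj).Y t = C.f (C.sN j hj (loT t)) := rfl
theorem RM_X (t : F) : C.RM.X t = C.f (C.mN (upT t)) := rfl
theorem RM_Y (t : F) : C.RM.Y t = C.f (C.mN (loT t)) := rfl

theorem RS_h (j : ℕ) (hj : 2 * j + 4 ≤ N) (a : F) (ha : a ≠ 0) :
    (C.RS j hj).h a = C.f (C.sN j hj (dgT a ha)) :=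
  RFam.ofSL2_h _ _ a ha

/-- consecutive short nodes are linked -/
theorem link_short (j : ℕ) (hj : 2 * (j + 1) + 4 ≤ N) (a : F) (ha : a ≠ 0) :
    Acts (C.RS (j + 1) hj).X ((C.RS j (by omega)).h a) a⁻¹ := by
  intro u
  rw [RS_h _ _ _ _ ha, RS_X, RS_X, ← map_mul, ← map_mul]
  congr 1
  apply Subtype.ext
  rw [Subgroup.coe_mul, Subgroup.coe_mul, sN_coe, sN_coe, sN_coe]
  exact sO_link j hj a ha u

/-- the last short node is linked to the last node -/
theorem link_mid (j : ℕ) (hκ : C.κ = j + 1) (a : F) (ha : a ≠ 0) :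
    Acts C.RM.X ((C.RS j (by have := C.hN; omega)).h a) a⁻¹ := by
  intro u
  rw [RS_h _ _ _ _ ha, RM_X, RM_X, ← map_mul, ← map_mul]
  congr 1
  apply Subtype.ext
  rw [Subgroup.coe_mul, Subgroup.coe_mul, sN_coe, mN_coe, mN_coe]
  have hN' : N = 2 * (j + 1) + 3 := by have := C.hN; omega
  have key := sO_link_sym C.h2 j hN' a ha u
  convert key using 3 <;> simp [hκ]

end BCtx

end Cfsg.Agent.AutPO
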