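import Cfsg.Agent.Lib.Lead.AutPSU.UOddNode
import Mathlib

/-!
# The symmetric square of `SL₂` in the orthogonal group of the antidiagonal form (lead)

The last node of the diagram `B_m`: `SL₂(F) → Ω₃(F)`, in the basis in which the form is
antidiagonal.
-/

set_option autoImplicit false

namespace Cfsg.Agent.AutPO

open Matrix Cfsg Cfsg.Agent.Lib.Helper5.GLBN Cfsg.Agent.Lib.Helper8.SpBN
  Cfsg.Agent.Lib.Helper8.Tw Cfsg.Agent.Lib.Helper8.AutSp Cfsg.Agent.PSUT Cfsg.Agent.AutPSU
open scoped MatrixGroups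

variable {F : Type*} [Field F]

/-- the symmetric square of a `2 × 2` matrix, in the antidiagonal basis -/
def symM (g : Matrix (Fin 2) (Fin 2) F) : Matrix (Fin 3) (Fin 3) F :=
  !![g 0 0 * g 0 0, g 0 0 * g 0 1, -(g 0 1 * g 0 1) / 2;
     2 * (g 0 0 * g 1 0), g 0 0 * g 1 1 + g 0 1 * g 1 0, -(g 0 1 * g 1 1);
     -(2 * (g 1 0 * g 1 0)), -(2 * (g 1 0 * g 1 1)), g 1 1 * g 1 1]

theorem symM_mul (h2 : (2 : F) ≠ 0) (g h : Matrix (Fin 2) (Fin 2) F) :
    symM (g * h) = symM g * symM h := by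
  ext i j
  fin_cases i <;> fin_cases j <;>
    simp [symM, Matrix.mul_apply, Fin.sum_univ_three, Fin.sum_univ_two] <;> field_simp <;> ring

theorem symM_one : symM (1 : Matrix (Fin 2) (Fin 2) F) = 1 := by
  ext i j
  fin_cases i <;> fin_cases j <;> simp [symM]

section hom

variable (h2 : (2 : F) ≠ 0)

/-- the symmetric square as a homomorphism `SL₂(F) → GL₃(F)` -/
noncomputable def symGL3 : Matrix.SpecialLinearGroup (Fin 2) F →* GL (Fin 3) F where
  toFun g := ⟨symM g.1, symM (g⁻¹).1, by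
      rw [← symM_mul h2, ← Matrix.SpecialLinearGroup.coe_mul, mul_inv_cancel,
        Matrix.SpecialLinearGroup.coe_one, symM_one], by
      rw [← symM_mul h2, ← Matrix.SpecialLinearGroup.coe_mul, inv_mul_cancel,
        Matrix.SpecialLinearGroup.coe_one, symM_one]⟩
  map_one' := by
    apply Units.ext
    show symM (1 : Matrix.SpecialLinearGroup (Fin 2) F).1 = 1
    rw [Matrix.SpecialLinearGroup.coe_one, symM_one]
  map_mul' g h := by
    apply Units.ext
    show symM (g * h).1 = symM g.1 * symM h.1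
    rw [Matrix.SpecialLinearGroup.coe_mul, symM_mul h2]

theorem symGL3_val (g : Matrix.SpecialLinearGroup (Fin 2) F) :
    ((symGL3 h2 g : GL (Fin 3) F) : Matrix (Fin 3) (Fin 3) F) = symM g.1 := rfl

include h2 in
theorem det_symM (g : Matrix (Fin 2) (Fin 2) F) :
    (symM g).det = (g 0 0 * g 1 1 - g 0 1 * g 1 0) ^ 3 := by
  rw [Matrix.det_fin_three]
  simp [symM]
  field_simp
  ring

theorem det_symGL3 (g : Matrix.SpecialLinearGroup (Fin 2) F) :
    ((symGL3 h2 g : GL (Fin 3) F) : Matrix (Fin 3) (Fin 3) F).det = 1 := by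
  rw [symGL3_val, det_symM h2]
  have := g.2
  rw [Matrix.det_fin_two] at this
  rw [this, one_pow]

theorem symGL3_mem_UH (g : Matrix.SpecialLinearGroup (Fin 2) F) :
    symGL3 h2 g ∈ UH 3 F (RingHom.id F) := by
  rw [mem_UH_iff_mul, symGL3_val]
  have hd := g.2
  rw [Matrix.det_fin_two] at hd
  ext i j
  fin_cases i <;> fin_cases j <;>
    simp [symM, Matrix.mul_apply, Fin.sum_univ_three, RG_apply, rev3_1, rev3_2]
  all_goals (try field_simp)
  all_goals first | ring1 | linear_combination (g.1 0 0 * g.1 1 1 - g.1 0 1 * g.1 1 0 + 1) * hd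

/-- the upper root elements -/
theorem symGL3_upT (t : F) :
    symGL3 h2 (upT t) = X3 (RingHom.id F) t (-(t * t) / 2) := by
  apply Units.ext
  rw [symGL3_val, X3_val]
  ext i j
  fin_cases i <;> fin_cases j <;> simp [symM, X3m, upT]

/-- the lower root elements -/
theorem symGL3_loT (t : F) :
    symGL3 h2 (loT t) = Y3 (RingHom.id F) (2 * t) (-(2 * (t * t))) := by
  apply Units.ext
  rw [symGL3_val, Y3_val]
  ext i j
  fin_cases i <;> fin_cases j <;> simp [symM, Y3m, loT]

/-- the torus elements -/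
theorem symGL3_dgT (a : F) (ha : a ≠ 0) :
    symGL3 h2 (dgT a ha)
      = dgU ![Units.mk0 (a * a) (mul_ne_zero ha ha), 1,
          (Units.mk0 (a * a) (mul_ne_zero ha ha))⁻¹] := by
  apply Units.ext
  rw [symGL3_val, dgU_coe]
  ext i j
  fin_cases i <;> fin_cases j <;> simp [symM, dgT, ha]

/-- a scalar value of the symmetric square comes from `± 1` -/
theorem symGL3_scalar (g : Matrix.SpecialLinearGroup (Fin 2) F) (c : F)
    (h : ∀ a b, ((symGL3 h2 g : GL (Fin 3) F) : Matrix (Fin 3) (Fin 3) F) a b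
      = if a = b then c else 0) : g = 1 ∨ g = -1 := by
  have hd := g.2
  rw [Matrix.det_fin_two] at hd
  have h00 := h 0 0
  have h01 := h 0 1
  have h10 := h 1 0
  have h12 := h 1 2
  have h11 := h 1 1
  have h22 := h 2 2
  simp [symGL3_val, symM] at h00 h01 h10 h12 h11 h22
  -- `h01 : g 0 0 = 0 ∨ g 0 1 = 0`, `h10 : g 0 0 = 0 ∨ g 1 0 = 0`
  have hc : c ≠ 0 := by
    rintro rfl
    have e0 : g.1 0 0 = 0 := mul_self_eq_zero.1 h00
    have e1 : g.1 1 1 = 0 := mul_self_eq_zero.1 h22
    rw [e0, e1] at h11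
    rw [e0, e1] at hd
    simp at h11 hd
    rcases h11 with h | h
    · rw [h] at hd; simp at hd
    · rw [h] at hd; simp at hd
  have g00 : g.1 0 0 ≠ 0 := by
    intro e
    rw [e] at h00
    simp at h00
    exact hc h00.symm
  have g01 : g.1 0 1 = 0 := by
    rcases h01 with h | h
    · exact absurd h g00
    · exact h
  have g10 : g.1 1 0 = 0 := by
    rcases h10 with h | h
    · exact absurd (by simpa using h) h2
    · rcases h with h | h
      · exact absurd h g00
      · exact h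
  rw [g01, g10] at hd h11
  simp at hd h11
  -- `hd : g 0 0 * g 1 1 = 1`, `h11 : g 0 0 * g 1 1 = c`, `h00 : g 0 0 * g 0 0 = c`
  have hc1 : c = 1 := by rw [← h11, hd]
  rw [hc1] at h00
  have hsq : (g.1 0 0 - 1) * (g.1 0 0 + 1) = 0 := by linear_combination h00
  rcases mul_eq_zero.1 hsq with h | h
  · left
    have e00 : g.1 0 0 = 1 := by linear_combination h
    have e11 : g.1 1 1 = 1 := by rw [e00, one_mul] at hd; exact hd
    apply Subtype.ext
    ext i j
    fin_cases i <;> fin_cases j <;> simp [e00, e11, g01, g10]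
  · right
    have e00 : g.1 0 0 = -1 := by linear_combination h
    have e11 : g.1 1 1 = -1 := by rw [e00] at hd; linear_combination (-1 : F) * hd
    apply Subtype.ext
    ext i j
    fin_cases i <;> fin_cases j <;> simp [e00, e11, g01, g10]

end hom

section emb

variable {N : ℕ} (h2 : (2 : F) ≠ 0) (κ : ℕ) (hN : N = 2 * κ + 3)

/-- the block homomorphism of the last node, into `GL_N` -/
noncomputable def symGL : Matrix.SpecialLinearGroup (Fin 2) F →* GL (Fin N) F :=
  (embGL (eM κ hN) (eM_inj κ hN)).comp (symGL3 h2)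

theorem symGL_apply (g : Matrix.SpecialLinearGroup (Fin 2) F) :
    symGL h2 κ hN g = embGL (eM κ hN) (eM_inj κ hN) (symGL3 h2 g) := rfl

theorem symGL_mem_UH (g : Matrix.SpecialLinearGroup (Fin 2) F) :
    symGL h2 κ hN g ∈ UH N F (RingHom.id F) :=
  embGL_mem_UH _ _ (revE_eM κ hN) (symGL3_mem_UH h2 g)

theorem det_symGL (g : Matrix.SpecialLinearGroup (Fin 2) F) :
    ((symGL h2 κ hN g : GL (Fin N) F) : Matrix (Fin N) (Fin N) F).det = 1 := by
  rw [symGL_apply, det_embGL, det_symGL3]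

/-- the block homomorphism `SL₂(F) →* SO_N` of the last node -/
noncomputable def symHom : Matrix.SpecialLinearGroup (Fin 2) F →* ↥(N1 N F (RingHom.id F)) :=
  ((symGL h2 κ hN).codRestrict (UH N F (RingHom.id F)) (symGL_mem_UH h2 κ hN)).codRestrict
    (N1 N F (RingHom.id F)) (by
      intro g
      rw [mem_N1]
      exact det_symGL h2 κ hN g)

theorem gl_symHom (g : Matrix.SpecialLinearGroup (Fin 2) F) :
    gl (symHom h2 κ hN g) = symGL h2 κ hN g := rfl

theorem symGL_upT (t : F) :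
    symGL h2 κ hN (upT t) = midGL (RingHom.id F) κ hN t (-(t * t) / 2) := by
  rw [symGL_apply, symGL3_upT]
  rfl

theorem symGL_loT (t : F) :
    symGL h2 κ hN (loT t) = midGLY (RingHom.id F) κ hN (2 * t) (-(2 * (t * t))) := by
  rw [symGL_apply, symGL3_loT]
  rfl

/-- the diagonal entries of the torus elements of the last node -/
noncomputable def symD (a : F) (ha : a ≠ 0) : Fin N → Fˣ :=
  extU (eM κ hN) ![Units.mk0 (a * a) (mul_ne_zero ha ha), 1,
    (Units.mk0 (a * a) (mul_ne_zero ha ha))⁻¹]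

theorem symGL_dgT (a : F) (ha : a ≠ 0) :
    symGL h2 κ hN (dgT a ha) = dgU (symD κ hN a ha) := by
  rw [symGL_apply, symGL3_dgT, embGL_dgU]
  rfl

theorem symD_0 (a : F) (ha : a ≠ 0) : (symD κ hN a ha (eM κ hN 0) : F) = a * a := by
  unfold symD
  rw [extU_apply (eM_inj κ hN)]
  rfl

theorem symD_1 (a : F) (ha : a ≠ 0) : symD κ hN a ha (eM κ hN 1) = 1 := by
  unfold symD
  rw [extU_apply (eM_inj κ hN)]
  rfl

theorem symD_2 (a : F) (ha : a ≠ 0) : (symD κ hN a ha (eM κ hN 2) : F) = (a * a)⁻¹ := by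
  unfold symD
  rw [extU_apply (eM_inj κ hN)]
  simp

theorem symD_other (a : F) (ha : a ≠ 0) (x : Fin N) (h : ∀ i, x ≠ eM κ hN i) :
    symD κ hN a ha x = 1 := by
  unfold symD
  rw [extU_of_not_mem _ h]

theorem symGL_scalar (g : Matrix.SpecialLinearGroup (Fin 2) F) (c : F)
    (h : ((symGL h2 κ hN g : GL (Fin N) F) : Matrix (Fin N) (Fin N) F)
      = Matrix.diagonal fun _ => c) : g = 1 ∨ g = -1 := by
  apply symGL3_scalar h2 g c
  intro a b
  have := congrFun (congrFun h (eM κ hN a)) (eM κ hN b)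
  rw [symGL_apply, embGL_coe, emb_apply_apply _ (eM_inj κ hN), Matrix.diagonal_apply] at this
  rw [this]
  by_cases hab : a = b
  · rw [if_pos hab, if_pos (by rw [hab])]
  · rw [if_neg hab, if_neg (fun e => hab (eM_inj κ hN e))]

end emb

end Cfsg.Agent.AutPO
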